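import Mathlib

/-!
# Quasi-isomorphisms are stable under exact colimits (helper2)

If `colim : (J ⥤ A) ⥤ A` is exact (e.g. `J` filtered and `A` satisfies AB5), then a colimit of
quasi-isomorphisms of homological complexes is a quasi-isomorphism.
-/

set_option autoImplicit false
universe w w' v u
open CategoryTheory Limits HomologicalComplex

namespace Groth.Agent.Lib.Helper2.KInj

variable {A : Type u} [Category.{v} A] [Abelian A] {J : Type w} [Category.{w'} J]
  {ι : Type*} {c : ComplexShape ι}

/-- a functor to complexes as a complex of functors -/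
@[simps]
def toCx (D : J ⥤ HomologicalComplex A c) : HomologicalComplex (J ⥤ A) c where
  X i := D ⋙ eval A c i
  d i j :=
    { app := fun t => (D.obj t).d i j
      naturality := fun _ _ g => (D.map g).comm i j }
  shape i j h := by
    ext t
    exact (D.obj t).shape i j h
  d_comp_d' i j k _ _ := by
    ext t
    exact (D.obj t).d_comp_d i j k

/-- functoriality of `toCx` -/
@[simps]
def toCxMap {D₁ D₂ : J ⥤ HomologicalComplex A c} (f : D₁ ⟶ D₂) : toCx D₁ ⟶ toCx D₂ where
  f i := Functor.whiskerRight f (eval A c i)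
  comm' i j _ := by
    ext t
    exact (f.app t).comm i j

lemma quasiIso_toCxMap {D₁ D₂ : J ⥤ HomologicalComplex A c} (f : D₁ ⟶ D₂)
    (hf : ∀ t, QuasiIso (f.app t)) : QuasiIso (toCxMap f) := by
  rw [quasiIso_iff_evaluation]
  intro t
  exact hf t

variable [HasColimitsOfShape J A]

/-- the standard colimit cocone of a functor to complexes -/
@[simps]
noncomputable def colimCocone (D : J ⥤ HomologicalComplex A c) : Cocone D where
  pt := (colim.mapHomologicalComplex c).obj (toCx D)
  ι :=
    { app := fun t =>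
        { f := fun i => colimit.ι (D ⋙ eval A c i) t
          comm' := fun i j _ => by
            change colimit.ι _ t ≫ colimMap ((toCx D).d i j) = _
            exact ι_colimMap ((toCx D).d i j) t }
      naturality := fun t t' g => by
        ext i
        dsimp
        rw [Category.comp_id]
        exact colimit.w (D ⋙ eval A c i) g }

/-- the standard cocone is a colimit cocone -/
noncomputable def isColimitColimCocone (D : J ⥤ HomologicalComplex A c) :
    IsColimit (colimCocone D) :=
  isColimitOfEval _ _ (fun i =>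
    IsColimit.ofIsoColimit (colimit.isColimit (D ⋙ eval A c i))
      (Cocone.ext (Iso.refl _) (fun t => Category.comp_id _)))

variable [HasExactColimitsOfShape J A]

lemma quasiIso_colimMap {D₁ D₂ : J ⥤ HomologicalComplex A c} (f : D₁ ⟶ D₂)
    (hf : ∀ t, QuasiIso (f.app t)) {c₁ : Cocone D₁} {c₂ : Cocone D₂} (hc₁ : IsColimit c₁)
    (hc₂ : IsColimit c₂) (φ : c₁.pt ⟶ c₂.pt)
    (hφ : ∀ t, c₁.ι.app t ≫ φ = f.app t ≫ c₂.ι.app t) : QuasiIso φ := by
  haveI := quasiIso_toCxMap f hf
  have h1 : QuasiIso ((colim.mapHomologicalComplex c).map (toCxMap f)) :=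
    quasiIso_map_of_preservesHomology (toCxMap f) colim
  let M := (colim.mapHomologicalComplex c).map (toCxMap f)
  let e₁ : c₁.pt ≅ (colim.mapHomologicalComplex c).obj (toCx D₁) :=
    hc₁.coconePointUniqueUpToIso (isColimitColimCocone D₁)
  let e₂ : c₂.pt ≅ (colim.mapHomologicalComplex c).obj (toCx D₂) :=
    hc₂.coconePointUniqueUpToIso (isColimitColimCocone D₂)
  let j₁ : ∀ t, D₁.obj t ⟶ (colim.mapHomologicalComplex c).obj (toCx D₁) :=
    fun t => (colimCocone D₁).ι.app t
  let j₂ : ∀ t, D₂.obj t ⟶ (colim.mapHomologicalComplex c).obj (toCx D₂) :=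
    fun t => (colimCocone D₂).ι.app t
  have h2 : φ ≫ e₂.hom = e₁.hom ≫ M := by
    apply hc₁.hom_ext
    intro t
    have h3 : j₁ t ≫ M = f.app t ≫ j₂ t := by
      ext i
      dsimp [j₁, j₂, M]
      exact ι_colimMap _ _
    have h4 : c₁.ι.app t ≫ e₁.hom = j₁ t :=
      IsColimit.comp_coconePointUniqueUpToIso_hom _ _ _
    have h5 : c₂.ι.app t ≫ e₂.hom = j₂ t :=
      IsColimit.comp_coconePointUniqueUpToIso_hom _ _ _
    calc c₁.ι.app t ≫ φ ≫ e₂.hom = (c₁.ι.app t ≫ φ) ≫ e₂.hom := (Category.assoc _ _ _).symm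
      _ = (f.app t ≫ c₂.ι.app t) ≫ e₂.hom := by rw [hφ]
      _ = f.app t ≫ j₂ t := by rw [Category.assoc, h5]
      _ = j₁ t ≫ M := h3.symm
      _ = (c₁.ι.app t ≫ e₁.hom) ≫ M := by rw [h4]
      _ = c₁.ι.app t ≫ e₁.hom ≫ M := Category.assoc _ _ _
  haveI : QuasiIso M := h1
  haveI : QuasiIso (φ ≫ e₂.hom) := by rw [h2]; infer_instance
  exact quasiIso_of_comp_right φ e₂.hom

instance : (HomologicalComplex.quasiIso A c).IsStableUnderColimitsOfShape J where
  condition X₁ X₂ c₁ c₂ hc₁ hc₂ f hf φ hφ := by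
    rw [mem_quasiIso_iff]
    exact quasiIso_colimMap f (fun t => (mem_quasiIso_iff _).1 (hf t)) hc₁ hc₂ φ hφ

end Groth.Agent.Lib.Helper2.KInj
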