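import Mathlib

/-!
# The relative cycle condition (helper2)

For a monomorphism `p : X ⟶ Y` of cochain complexes in an abelian category, `p` is a
quasi-isomorphism iff every "relative cycle" (`b : T ⟶ Y^j` with `d b ∈ X^{j+1}`) is, up to
refinement, of the form `d y + x'` with `x' ∈ X^j`.
-/

set_option autoImplicit false
universe v u
open CategoryTheory Limits HomologicalComplex

namespace Groth.Agent.Lib.Helper2.KInj

variable {A : Type u} [Category.{v} A] [Abelian A]

/-- relative cycle condition for a morphism of cochain complexes -/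
def RC {X Y : CochainComplex A ℤ} (p : X ⟶ Y) : Prop :=
  ∀ (i j k : ℤ) (_ : i + 1 = j) (_ : j + 1 = k) ⦃T : A⦄ (b : T ⟶ Y.X j) (x : T ⟶ X.X k),
    b ≫ Y.d j k = x ≫ p.f k →
    ∃ (T' : A) (π : T' ⟶ T) (_ : Epi π) (y : T' ⟶ Y.X i) (x' : T' ⟶ X.X j),
      π ≫ b = y ≫ Y.d i j + x' ≫ p.f j

variable {X Y : CochainComplex A ℤ} (p : X ⟶ Y)

lemma RC.of_quasiIso [Mono p] [QuasiIso p] : RC p := by
  intro i j k hij hjk T b x hbx
  have hprev : (ComplexShape.up ℤ).prev j = i := by simp [← hij]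
  have hnext : (ComplexShape.up ℤ).next j = k := by simp [← hjk]
  have hprevk : (ComplexShape.up ℤ).prev k = j := by simp [← hjk]
  have hmono : ∀ n, Mono (p.f n) := fun n => inferInstance
  -- x is a cycle
  have hx : x ≫ X.d k (k + 1) = 0 := by
    rw [← cancel_mono (p.f (k + 1)), Category.assoc, ← p.comm, ← Category.assoc, ← hbx,
      Category.assoc, Y.d_comp_d, comp_zero, zero_comp]
  -- injectivity of H^k(p)
  have h1 : Mono (homologyMap p k) := by
    have := (quasiIsoAt_iff_isIso_homologyMap p k).1 inferInstance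
    infer_instance
  obtain ⟨T₁, π₁, hπ₁, x₁, hx₁⟩ :=
    (mono_homologyMap_iff_up_to_refinements p j k (k + 1) hprevk (by simp)).1 h1 x hx b hbx.symm
  -- π₁ ≫ b - x₁ ≫ p.f j is a cycle
  have hc : (π₁ ≫ b - x₁ ≫ p.f j) ≫ Y.d j k = 0 := by
    rw [Preadditive.sub_comp, Category.assoc, hbx, ← Category.assoc, hx₁, Category.assoc,
      Category.assoc, p.comm, sub_self]
  have h2 : Epi (homologyMap p j) := by
    have := (quasiIsoAt_iff_isIso_homologyMap p j).1 inferInstance
    infer_instance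
  obtain ⟨T₂, π₂, hπ₂, x₂, _, y₁, hy₁⟩ :=
    (epi_homologyMap_iff_up_to_refinements p i j k hprev hnext).1 h2 _ hc
  refine ⟨T₂, π₂ ≫ π₁, epi_comp _ _, y₁, π₂ ≫ x₁ + x₂, ?_⟩
  rw [Preadditive.comp_sub] at hy₁
  rw [Preadditive.add_comp, Category.assoc, Category.assoc]
  rw [sub_eq_iff_eq_add] at hy₁
  rw [hy₁]
  abel

lemma RC.quasiIso [Mono p] (h : RC p) : QuasiIso p := by
  have hmono : ∀ n, Mono (p.f n) := fun n => inferInstance
  rw [quasiIso_iff]
  intro j
  rw [quasiIsoAt_iff_isIso_homologyMap]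
  have hprev : (ComplexShape.up ℤ).prev j = j - 1 := by simp
  have hnext : (ComplexShape.up ℤ).next j = j + 1 := by simp
  have : Mono (homologyMap p j) := by
    rw [mono_homologyMap_iff_up_to_refinements p (j - 1) j (j + 1) hprev hnext]
    intro T x₂ hx₂ y₁ hy₁
    obtain ⟨T', π, hπ, y, x', hyx⟩ := h (j - 1 - 1) (j - 1) j (by omega) (by omega) y₁ x₂ hy₁.symm
    refine ⟨T', π, hπ, x', ?_⟩
    rw [← cancel_mono (p.f j), Category.assoc, hy₁, ← Category.assoc, hyx, Preadditive.add_comp,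
      Category.assoc, Y.d_comp_d, comp_zero, zero_add, Category.assoc, Category.assoc, p.comm]
  have : Epi (homologyMap p j) := by
    rw [epi_homologyMap_iff_up_to_refinements p (j - 1) j (j + 1) hprev hnext]
    intro T y₂ hy₂
    obtain ⟨T', π, hπ, y, x', hyx⟩ := h (j - 1) j (j + 1) (by omega) rfl y₂ 0
      (by rw [hy₂, zero_comp])
    refine ⟨T', π, hπ, x', ?_, y, ?_⟩
    · rw [← cancel_mono (p.f (j + 1)), Category.assoc, ← p.comm, zero_comp, ← Category.assoc]
      have : x' ≫ p.f j = π ≫ y₂ - y ≫ Y.d (j - 1) j := by rw [hyx]; abel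
      rw [this, Preadditive.sub_comp, Category.assoc, hy₂, comp_zero, Category.assoc, Y.d_comp_d,
        comp_zero, sub_self]
    · rw [hyx]; abel
  exact isIso_of_mono_of_epi _

lemma quasiIso_iff_RC [Mono p] : QuasiIso p ↔ RC p :=
  ⟨fun _ => RC.of_quasiIso p, RC.quasiIso p⟩

end Groth.Agent.Lib.Helper2.KInj
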