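import Mathlib
import Groth.Agent.Lib.Helper2.KInj.RelCycle

/-!
# Selecting small covering families (helper2)
-/

set_option autoImplicit false
universe w v u
open CategoryTheory Limits HomologicalComplex

namespace Groth.Agent.Lib.Helper2.KInj

variable {A : Type u} [Category.{v} A] [Abelian A]

/-- Given an epimorphism `q : T₀ ⟶ R`, a separator `G` and an injection of the subobjects of `R`
into a type `V`, there is a `V`-indexed family of maps `G ⟶ T₀` which jointly cover `R`. -/
lemma exists_small_cover {G : A} (hG : IsSeparator G) {T₀ R : A} (q : T₀ ⟶ R) [Epi q]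
    {V : Type w} [HasCoproduct (fun _ : V => G)] (ι : Subobject R → V)
    (hι : Function.Injective ι) :
    ∃ g : V → (G ⟶ T₀), Epi (Sigma.desc g ≫ q) := by
  classical
  let s : (G ⟶ T₀) → Subobject R := fun x => imageSubobject (x ≫ q)
  let g : V → (G ⟶ T₀) := fun v => if h : ∃ x, ι (s x) = v then h.choose else 0
  refine ⟨g, ⟨fun {Z} u v huv => ?_⟩⟩
  rw [← cancel_epi q]
  refine hG.def _ _ (fun x => ?_)
  have h : ∃ x', ι (s x') = ι (s x) := ⟨x, rfl⟩
  have hg : g (ι (s x)) = h.choose := dif_pos h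
  have hs : s h.choose = s x := hι h.choose_spec
  have h1 : (h.choose ≫ q) ≫ u = (h.choose ≫ q) ≫ v := by
    have := Sigma.ι (fun _ : V => G) (ι (s x)) ≫= huv
    simpa [hg] using this
  have h2 : (s h.choose).arrow ≫ u = (s h.choose).arrow ≫ v := by
    rw [← cancel_epi (factorThruImageSubobject (h.choose ≫ q))]
    have h4 : factorThruImageSubobject (h.choose ≫ q) ≫ (s h.choose).arrow = h.choose ≫ q := by
      simp [s]
    rw [← Category.assoc, ← Category.assoc, h4]
    exact h1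
  rw [hs] at h2
  have h3 : x ≫ q = factorThruImageSubobject (x ≫ q) ≫ (s x).arrow := by simp [s]
  rw [← Category.assoc, ← Category.assoc, h3, Category.assoc, Category.assoc, h2]

end Groth.Agent.Lib.Helper2.KInj

namespace Groth.Agent.Lib.Helper2.KInj

variable {A : Type u} [Category.{v} A] [Abelian A] [IsGrothendieckAbelian.{v} A]

/-- the enlargement object: a coproduct of copies of the separator indexed by the subobjects -/
noncomputable def E (P : A) : A := ∐ (fun _ : Shrink.{v} (Subobject P) => separator A)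

/-- Given `ε : P ⟶ Y^j`, there is `ε' : E P ⟶ Y^i` such that every relative cycle coming from `P`
is a relative boundary coming from `E P` (modulo `X`). -/
lemma exists_enlarge {X Y : CochainComplex A ℤ} (p : X ⟶ Y) [Mono p] (hp : RC p)
    (i j k : ℤ) (hij : i + 1 = j) (hjk : j + 1 = k) {P : A} (ε : P ⟶ Y.X j) :
    ∃ ε' : E P ⟶ Y.X i, ∀ ⦃T : A⦄ (b : T ⟶ P) (x : T ⟶ X.X k),
      b ≫ ε ≫ Y.d j k = x ≫ p.f k →
      ∃ (T' : A) (π : T' ⟶ T) (_ : Epi π) (y : T' ⟶ E P) (x' : T' ⟶ X.X j),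
        π ≫ b ≫ ε = y ≫ ε' ≫ Y.d i j + x' ≫ p.f j := by
  have hmono : Mono (p.f k) := inferInstance
  let R := pullback (ε ≫ Y.d j k) (p.f k)
  let r₁ : R ⟶ P := pullback.fst _ _
  let r₂ : R ⟶ X.X k := pullback.snd _ _
  have hr : r₁ ≫ ε ≫ Y.d j k = r₂ ≫ p.f k := pullback.condition
  haveI : Mono r₁ := inferInstanceAs (Mono (pullback.fst _ _))
  obtain ⟨T₀, π₀, hπ₀, y₀, x₀, h₀⟩ := hp i j k hij hjk (r₁ ≫ ε) r₂ (by rw [Category.assoc, hr])
  -- injection Sub(R) → Shrink (Sub P)
  let ι : Subobject R → Shrink.{v} (Subobject P) := fun S =>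
    equivShrink _ ((Subobject.map r₁).obj S)
  have hι : Function.Injective ι := fun S S' h =>
    Subobject.map_obj_injective r₁ ((equivShrink _).injective h)
  obtain ⟨g, hg⟩ := exists_small_cover (isSeparator_separator A) π₀ ι hι
  refine ⟨Sigma.desc g ≫ y₀, fun T b x hbx => ?_⟩
  let r : T ⟶ R := pullback.lift b x hbx
  have hr₁ : r ≫ r₁ = b := pullback.lift_fst _ _ _
  obtain ⟨T', π, hπ, y, hy⟩ := surjective_up_to_refinements_of_epi (Sigma.desc g ≫ π₀) r
  refine ⟨T', π, hπ, y, y ≫ Sigma.desc g ≫ x₀, ?_⟩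
  have h5 : π ≫ b ≫ ε = (π ≫ r) ≫ r₁ ≫ ε := by rw [Category.assoc, ← Category.assoc r, hr₁]
  have h6 : π₀ ≫ r₁ ≫ ε = y₀ ≫ Y.d i j + x₀ ≫ p.f j := by rw [← h₀]
  rw [h5, hy, Category.assoc, Category.assoc, h6]
  simp only [Preadditive.comp_add, Category.assoc]
  rfl

end Groth.Agent.Lib.Helper2.KInj
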