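import Mathlib
import Groth.Agent.Lib.Helper2.KInj.Select

/-!
# Universal bounded-above test complexes (helper2)

`Bd n₀` is a cochain complex, depending only on the Grothendieck abelian category `A` and `n₀ : ℤ`,
such that for every monomorphic quasi-isomorphism `p : X ⟶ Y` and any `ε₀ : separator A ⟶ Y^{n₀}`,
there is a morphism `Bd n₀ ⟶ Y` through which `ε₀` factors, and such that the pullback of `p` along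
this morphism is a quasi-isomorphism.
-/

set_option autoImplicit false
universe v u
open CategoryTheory Limits HomologicalComplex

namespace Groth.Agent.Lib.Helper2.KInj

variable {A : Type u} [Category.{v} A] [Abelian A] [IsGrothendieckAbelian.{v} A]

/-- the universal tower of objects -/
noncomputable def P : ℕ → A
  | 0 => separator A
  | k + 1 => E (P k)

section Family

variable {X Y : CochainComplex A ℤ} (p : X ⟶ Y) [Mono p] (hp : RC p) (n₀ : ℤ)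
  (ε₀ : separator A ⟶ Y.X (n₀ - ((0 : ℕ) : ℤ)))

/-- the family of maps `P k ⟶ Y^{n₀ - k}` -/
noncomputable def εN : ∀ k : ℕ, (P (A := A) k ⟶ Y.X (n₀ - (k : ℤ)))
  | 0 => ε₀
  | k + 1 => (exists_enlarge p hp (n₀ - ((k + 1 : ℕ) : ℤ)) (n₀ - k) (n₀ - k + 1)
      (by push_cast; ring) rfl (εN k)).choose

lemma εN_spec (k : ℕ) ⦃T : A⦄ (b : T ⟶ P k) (x : T ⟶ X.X (n₀ - k + 1))
    (h : b ≫ εN p hp n₀ ε₀ k ≫ Y.d (n₀ - k) (n₀ - k + 1) = x ≫ p.f (n₀ - k + 1)) :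
    ∃ (T' : A) (π : T' ⟶ T) (_ : Epi π) (y : T' ⟶ P (k + 1)) (x' : T' ⟶ X.X (n₀ - k)),
      π ≫ b ≫ εN p hp n₀ ε₀ k =
        y ≫ εN p hp n₀ ε₀ (k + 1) ≫ Y.d (n₀ - ((k + 1 : ℕ) : ℤ)) (n₀ - k) + x' ≫ p.f (n₀ - k) :=
  (exists_enlarge p hp (n₀ - ((k + 1 : ℕ) : ℤ)) (n₀ - k) (n₀ - k + 1)
      (by push_cast; ring) rfl (εN p hp n₀ ε₀ k)).choose_spec b x h

end Family

section Subsingleton

variable {ι : Type} [Subsingleton ι] (f : ι → A) [HasCoproduct f]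

/-- over a subsingleton index type, every coprojection is an isomorphism -/
lemma isIso_sigma_ι_of_subsingleton (i₀ : ι) : IsIso (Sigma.ι f i₀) := by
  refine ⟨Sigma.desc (fun i => eqToHom (by rw [Subsingleton.elim i i₀])), by simp, ?_⟩
  refine Sigma.hom_ext _ _ (fun i => ?_)
  obtain rfl := Subsingleton.elim i i₀
  simp

lemma eq_zero_of_isEmpty_index [IsEmpty ι] {T : A} (b : T ⟶ ∐ f) : b = 0 := by
  have : 𝟙 (∐ f) = 0 := Sigma.hom_ext _ _ (fun i => isEmptyElim i)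
  rw [← Category.comp_id b, this, comp_zero]

end Subsingleton

/-- indices contributing to the first summand in degree `m` -/
abbrev Fib₁ (n₀ m : ℤ) : Type := {k : ℕ // n₀ - (k : ℤ) = m}
/-- indices contributing to the second summand in degree `m` -/
abbrev Fib₂ (n₀ m : ℤ) : Type := {k : ℕ // n₀ - (k : ℤ) + 1 = m}

instance (n₀ m : ℤ) : Subsingleton (Fib₁ n₀ m) :=
  ⟨fun a b => Subtype.ext (by have := a.2; have := b.2; omega)⟩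
instance (n₀ m : ℤ) : Subsingleton (Fib₂ n₀ m) :=
  ⟨fun a b => Subtype.ext (by have := a.2; have := b.2; omega)⟩

instance (n₀ m : ℤ) : HasCoproductsOfShape (Fib₁ n₀ m) A := hasCoproductsOfShape_of_small.{v} A _
instance (n₀ m : ℤ) : HasCoproductsOfShape (Fib₂ n₀ m) A := hasCoproductsOfShape_of_small.{v} A _

/-- first summand of the bound complex -/
noncomputable def Q₁ (n₀ m : ℤ) : A := ∐ (fun k : Fib₁ n₀ m => P (A := A) k.1)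
/-- second summand of the bound complex -/
noncomputable def Q₂ (n₀ m : ℤ) : A := ∐ (fun k : Fib₂ n₀ m => P (A := A) k.1)

/-- the coprojections -/
noncomputable def ι₁ (n₀ m : ℤ) (k : ℕ) (hk : n₀ - (k : ℤ) = m) : P (A := A) k ⟶ Q₁ n₀ m :=
  Sigma.ι (fun k : Fib₁ n₀ m => P (A := A) k.1) ⟨k, hk⟩
/-- the coprojections -/
noncomputable def ι₂ (n₀ m : ℤ) (k : ℕ) (hk : n₀ - (k : ℤ) + 1 = m) : P (A := A) k ⟶ Q₂ n₀ m :=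
  Sigma.ι (fun k : Fib₂ n₀ m => P (A := A) k.1) ⟨k, hk⟩

/-- maps out of `Q₁` -/
noncomputable def desc₁ {n₀ m : ℤ} {Z : A} (φ : ∀ (k : ℕ), n₀ - (k : ℤ) = m → (P (A := A) k ⟶ Z)) :
    Q₁ (A := A) n₀ m ⟶ Z :=
  Sigma.desc (fun k : Fib₁ n₀ m => φ k.1 k.2)
/-- maps out of `Q₂` -/
noncomputable def desc₂ {n₀ m : ℤ} {Z : A}
    (φ : ∀ (k : ℕ), n₀ - (k : ℤ) + 1 = m → (P (A := A) k ⟶ Z)) :
    Q₂ (A := A) n₀ m ⟶ Z :=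
  Sigma.desc (fun k : Fib₂ n₀ m => φ k.1 k.2)

@[reassoc (attr := simp)]
lemma ι₁_desc₁ {n₀ m : ℤ} {Z : A} (φ : ∀ (k : ℕ), n₀ - (k : ℤ) = m → (P (A := A) k ⟶ Z))
    (k : ℕ) (hk : n₀ - (k : ℤ) = m) : ι₁ n₀ m k hk ≫ desc₁ φ = φ k hk :=
  Sigma.ι_desc (fun k : Fib₁ n₀ m => φ k.1 k.2) ⟨k, hk⟩

@[reassoc (attr := simp)]
lemma ι₂_desc₂ {n₀ m : ℤ} {Z : A} (φ : ∀ (k : ℕ), n₀ - (k : ℤ) + 1 = m → (P (A := A) k ⟶ Z))
    (k : ℕ) (hk : n₀ - (k : ℤ) + 1 = m) : ι₂ n₀ m k hk ≫ desc₂ φ = φ k hk :=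
  Sigma.ι_desc (fun k : Fib₂ n₀ m => φ k.1 k.2) ⟨k, hk⟩

lemma Q₁_hom_ext {n₀ m : ℤ} {Z : A} {f g : Q₁ (A := A) n₀ m ⟶ Z}
    (h : ∀ (k : ℕ) (hk : n₀ - (k : ℤ) = m), ι₁ n₀ m k hk ≫ f = ι₁ n₀ m k hk ≫ g) : f = g :=
  Sigma.hom_ext _ _ (fun k => h k.1 k.2)

lemma Q₂_hom_ext {n₀ m : ℤ} {Z : A} {f g : Q₂ (A := A) n₀ m ⟶ Z}
    (h : ∀ (k : ℕ) (hk : n₀ - (k : ℤ) + 1 = m), ι₂ n₀ m k hk ≫ f = ι₂ n₀ m k hk ≫ g) : f = g :=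
  Sigma.hom_ext _ _ (fun k => h k.1 k.2)

/-- the shift map `Q₁ m ⟶ Q₂ m'` for `m + 1 = m'` -/
noncomputable def shiftQ (n₀ m m' : ℤ) (h : m + 1 = m') : Q₁ (A := A) n₀ m ⟶ Q₂ n₀ m' :=
  desc₁ (fun k hk => ι₂ n₀ m' k (by omega))

/-- the inverse shift map `Q₂ m' ⟶ Q₁ m` for `m + 1 = m'` -/
noncomputable def unshiftQ (n₀ m m' : ℤ) (h : m + 1 = m') : Q₂ (A := A) n₀ m' ⟶ Q₁ n₀ m :=
  desc₂ (fun k hk => ι₁ n₀ m k (by omega))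

/-- the universal bound complex -/
noncomputable def Bd (n₀ : ℤ) : CochainComplex A ℤ :=
  CochainComplex.of (fun m => Q₁ n₀ m ⊞ Q₂ n₀ m)
    (fun m => biprod.fst ≫ shiftQ n₀ m (m + 1) rfl ≫ biprod.inr) (by intro m; simp)

lemma Bd_d (n₀ m m' : ℤ) (h : m + 1 = m') :
    (Bd (A := A) n₀).d m m' = biprod.fst ≫ shiftQ n₀ m m' h ≫ biprod.inr := by
  subst h
  exact CochainComplex.of_d (V := A) (α := ℤ) (fun m => Q₁ n₀ m ⊞ Q₂ n₀ m)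
    (fun m => biprod.fst ≫ shiftQ n₀ m (m + 1) rfl ≫ biprod.inr) m

lemma shiftQ_unshiftQ (n₀ m m' : ℤ) (h : m + 1 = m') :
    shiftQ (A := A) n₀ m m' h ≫ unshiftQ n₀ m m' h = 𝟙 _ :=
  Q₁_hom_ext (fun k hk => by simp [shiftQ, unshiftQ])

section Map

variable {Y : CochainComplex A ℤ} (n₀ : ℤ) (e : ∀ k : ℕ, P (A := A) k ⟶ Y.X (n₀ - (k : ℤ)))

/-- first component of the map from the bound complex -/
noncomputable def φ₁ (m : ℤ) : Q₁ (A := A) n₀ m ⟶ Y.X m :=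
  desc₁ (fun k hk => e k ≫ (Y.XIsoOfEq hk).hom)

/-- second component of the map from the bound complex -/
noncomputable def φ₂ (m : ℤ) : Q₂ (A := A) n₀ m ⟶ Y.X m :=
  desc₂ (fun k _ => e k ≫ Y.d (n₀ - k) m)

@[reassoc (attr := simp)]
lemma ι₁_φ₁ (m : ℤ) (k : ℕ) (hk : n₀ - (k : ℤ) = m) :
    ι₁ n₀ m k hk ≫ φ₁ n₀ e m = e k ≫ (Y.XIsoOfEq hk).hom := by
  simp [φ₁]

@[reassoc (attr := simp)]
lemma ι₂_φ₂ (m : ℤ) (k : ℕ) (hk : n₀ - (k : ℤ) + 1 = m) :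
    ι₂ n₀ m k hk ≫ φ₂ n₀ e m = e k ≫ Y.d (n₀ - k) m := by
  simp [φ₂]

@[reassoc (attr := simp)]
lemma φ₂_d (m m' : ℤ) : φ₂ n₀ e m ≫ Y.d m m' = 0 :=
  Q₂_hom_ext (fun k hk => by simp)

@[reassoc]
lemma φ₁_d (m m' : ℤ) (h : m + 1 = m') :
    φ₁ n₀ e m ≫ Y.d m m' = shiftQ n₀ m m' h ≫ φ₂ n₀ e m' :=
  Q₁_hom_ext (fun k hk => by simp [shiftQ])

lemma φ₂_eq (m m' : ℤ) (h : m + 1 = m') :
    φ₂ n₀ e m' = unshiftQ n₀ m m' h ≫ φ₁ n₀ e m ≫ Y.d m m' :=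
  Q₂_hom_ext (fun k hk => by simp [unshiftQ])

lemma bdMap_comm (m m' : ℤ) (h : m + 1 = m') :
    biprod.desc (φ₁ n₀ e m) (φ₂ n₀ e m) ≫ Y.d m m' =
      (biprod.fst ≫ shiftQ n₀ m m' h ≫ biprod.inr) ≫ biprod.desc (φ₁ n₀ e m') (φ₂ n₀ e m') := by
  apply biprod.hom_ext'
  · simp [φ₁_d n₀ e m m' h]
  · simp

/-- the map from the bound complex -/
noncomputable def bdMap : Bd (A := A) n₀ ⟶ Y where
  f m := biprod.desc (φ₁ n₀ e m) (φ₂ n₀ e m)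
  comm' m m' (h : m + 1 = m') := by
    rw [Bd_d n₀ m m' h]
    exact bdMap_comm n₀ e m m' h

lemma bdMap_f (m : ℤ) : (bdMap n₀ e).f m = biprod.desc (φ₁ n₀ e m) (φ₂ n₀ e m) := rfl

lemma comp_biprod_desc {M N Z T : A} (b : T ⟶ M ⊞ N) (f : M ⟶ Z) (g : N ⟶ Z) :
    b ≫ biprod.desc f g = (b ≫ biprod.fst) ≫ f + (b ≫ biprod.snd) ≫ g := by
  calc b ≫ biprod.desc f g = b ≫ 𝟙 _ ≫ biprod.desc f g := by rw [Category.id_comp]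
    _ = b ≫ (biprod.fst ≫ biprod.inl + biprod.snd ≫ biprod.inr) ≫ biprod.desc f g := by
        rw [biprod.total]
    _ = (b ≫ biprod.fst) ≫ f + (b ≫ biprod.snd) ≫ g := by
        rw [Preadditive.add_comp, Category.assoc, Category.assoc, biprod.inl_desc,
          biprod.inr_desc, Preadditive.comp_add, Category.assoc, Category.assoc]

/-- the inclusion of the first summand of the bound complex -/
noncomputable def bdInl (m : ℤ) : Q₁ (A := A) n₀ m ⟶ (Bd (A := A) n₀).X m :=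
  (biprod.inl : Q₁ n₀ m ⟶ Q₁ n₀ m ⊞ Q₂ n₀ m)

@[reassoc (attr := simp)]
lemma bdInl_bdMap (m : ℤ) : bdInl n₀ m ≫ (bdMap n₀ e).f m = φ₁ n₀ e m :=
  biprod.inl_desc _ _

lemma bdMap_decomp (m : ℤ) {T : A} (b : T ⟶ (Bd (A := A) n₀).X m) :
    ∃ (b₁ : T ⟶ Q₁ n₀ m) (b₂ : T ⟶ Q₂ n₀ m),
      b ≫ (bdMap n₀ e).f m = b₁ ≫ φ₁ n₀ e m + b₂ ≫ φ₂ n₀ e m :=
  ⟨_, _, comp_biprod_desc (M := Q₁ n₀ m) (N := Q₂ n₀ m) b _ _⟩

end Map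

section Good

variable {X Y : CochainComplex A ℤ} (p : X ⟶ Y) [Mono p] (hp : RC p) (n₀ : ℤ)
  (ε₀ : separator A ⟶ Y.X (n₀ - ((0 : ℕ) : ℤ)))

lemma bdMap_good_aux (i j k : ℤ) (hij : i + 1 = j) (hjk : j + 1 = k) ⦃T : A⦄
    (b₁ : T ⟶ Q₁ n₀ j) (b₂ : T ⟶ Q₂ n₀ j) (x : T ⟶ X.X k)
    (h : b₁ ≫ φ₁ n₀ (εN p hp n₀ ε₀) j ≫ Y.d j k = x ≫ p.f k) :
    ∃ (T' : A) (π : T' ⟶ T) (_ : Epi π) (y : T' ⟶ Q₁ n₀ i) (x' : T' ⟶ X.X j),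
      π ≫ (b₁ ≫ φ₁ n₀ (εN p hp n₀ ε₀) j + b₂ ≫ φ₂ n₀ (εN p hp n₀ ε₀) j) =
        y ≫ φ₁ n₀ (εN p hp n₀ ε₀) i ≫ Y.d i j + x' ≫ p.f j := by
  by_cases hne : Nonempty (Fib₁ n₀ j)
  · obtain ⟨⟨k₁, hk₁⟩⟩ := hne
    subst hk₁
    subst hjk
    obtain rfl : i = n₀ - ((k₁ + 1 : ℕ) : ℤ) := by push_cast; omega
    haveI := isIso_sigma_ι_of_subsingleton (fun k : Fib₁ n₀ (n₀ - (k₁ : ℤ)) => P (A := A) k.1)
      ⟨k₁, rfl⟩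
    have hiso : IsIso (ι₁ (A := A) n₀ (n₀ - (k₁ : ℤ)) k₁ rfl) := this
    let b₁' : T ⟶ P k₁ := b₁ ≫ inv (ι₁ (A := A) n₀ (n₀ - (k₁ : ℤ)) k₁ rfl)
    have hb₁ : b₁ = b₁' ≫ ι₁ n₀ (n₀ - (k₁ : ℤ)) k₁ rfl := by simp [b₁']
    have h' : b₁' ≫ εN p hp n₀ ε₀ k₁ ≫ Y.d (n₀ - k₁) (n₀ - k₁ + 1) = x ≫ p.f (n₀ - k₁ + 1) := by
      rw [← h, hb₁]
      simp
    obtain ⟨T', π, hπ, y₁, x', hy⟩ := εN_spec p hp n₀ ε₀ k₁ b₁' x h'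
    refine ⟨T', π, hπ, y₁ ≫ ι₁ n₀ _ (k₁ + 1) rfl + π ≫ b₂ ≫ unshiftQ n₀ _ _ hij, x', ?_⟩
    rw [φ₂_eq n₀ _ _ _ hij, hb₁]
    simp only [Preadditive.comp_add, Preadditive.add_comp, Category.assoc, ι₁_φ₁_assoc, ι₁_φ₁,
      XIsoOfEq_rfl, Iso.refl_hom, Category.id_comp, Category.comp_id]
    rw [hy]
    abel
  · haveI : IsEmpty (Fib₁ n₀ j) := not_nonempty_iff.1 hne
    have hb₁ : b₁ = 0 :=
      eq_zero_of_isEmpty_index (fun k : Fib₁ n₀ j => P (A := A) k.1) b₁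
    refine ⟨T, 𝟙 T, inferInstance, b₂ ≫ unshiftQ n₀ i j hij, 0, ?_⟩
    rw [φ₂_eq n₀ _ i j hij, hb₁]
    simp

lemma εN_zero : εN p hp n₀ ε₀ 0 = ε₀ := rfl

end Good

/-- the inclusion of the separator in the top degree of the bound complex -/
noncomputable def bdTop (n₀ : ℤ) : separator A ⟶ (Bd (A := A) n₀).X n₀ :=
  (ι₁ n₀ n₀ 0 (by simp) : separator A ⟶ Q₁ n₀ n₀) ≫ bdInl n₀ n₀

lemma bdTop_bdMap {Y : CochainComplex A ℤ} (n₀ : ℤ)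
    (e : ∀ k : ℕ, P (A := A) k ⟶ Y.X (n₀ - (k : ℤ))) :
    bdTop n₀ ≫ (bdMap n₀ e).f n₀ =
      (e 0 : separator A ⟶ Y.X (n₀ - ((0 : ℕ) : ℤ))) ≫ (Y.XIsoOfEq (by simp)).hom := by
  rw [bdTop, Category.assoc, bdInl_bdMap]
  exact ι₁_φ₁ n₀ e n₀ 0 (by simp)

end Groth.Agent.Lib.Helper2.KInj
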