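import Mathlib
import Groth.Agent.Lib.Helper2.KInj.RelCycle

/-!
# Pushouts of monomorphic quasi-isomorphisms (helper2)
-/

set_option autoImplicit false
universe v u
open CategoryTheory Limits HomologicalComplex

namespace Groth.Agent.Lib.Helper2.KInj

variable {A : Type u} [Category.{v} A] [Abelian A]

variable {X₁ X₂ X₃ X₄ : CochainComplex A ℤ} {t : X₁ ⟶ X₂} {l : X₁ ⟶ X₃} {r : X₂ ⟶ X₄}
  {b : X₃ ⟶ X₄}

lemma RC.of_isPushout (sq : IsPushout t l r b) (ht : RC t) : RC b := by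
  intro i j k hij hjk T y₄ x₃ h
  have sqj : IsPushout (t.f j) (l.f j) (r.f j) (b.f j) := sq.map (eval A (ComplexShape.up ℤ) j)
  have sqk : IsPushout (t.f k) (l.f k) (r.f k) (b.f k) := sq.map (eval A (ComplexShape.up ℤ) k)
  obtain ⟨T₁, π₁, hπ₁, x₂, x₃', h₁⟩ := sqj.hom_eq_add_up_to_refinements y₄
  -- the pair `(x₂ d, x₃' d - π₁ x₃)` maps to zero in `X₄^k`
  have h₂ : biprod.lift (x₂ ≫ X₂.d j k) (x₃' ≫ X₃.d j k - π₁ ≫ x₃) ≫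
      biprod.desc (r.f k) (b.f k) = 0 := by
    have e1 : x₂ ≫ X₂.d j k ≫ r.f k = (x₂ ≫ r.f j) ≫ X₄.d j k := by rw [Category.assoc, r.comm]
    have e2 : x₃' ≫ X₃.d j k ≫ b.f k = (x₃' ≫ b.f j) ≫ X₄.d j k := by
      rw [Category.assoc, b.comm]
    have e3 : π₁ ≫ x₃ ≫ b.f k = (π₁ ≫ y₄) ≫ X₄.d j k := by rw [Category.assoc, h]
    rw [biprod.lift_desc, Preadditive.sub_comp, Category.assoc, Category.assoc, Category.assoc,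
      e1, e2, e3, h₁, Preadditive.add_comp]
    abel
  obtain ⟨T₂, π₂, hπ₂, x₁, h₃⟩ := sqk.exact_shortComplex.exact_up_to_refinements
    (biprod.lift (x₂ ≫ X₂.d j k) (x₃' ≫ X₃.d j k - π₁ ≫ x₃)) h₂
  have h₃' : π₂ ≫ biprod.lift (x₂ ≫ X₂.d j k) (x₃' ≫ X₃.d j k - π₁ ≫ x₃) =
      x₁ ≫ biprod.lift (t.f k) (-l.f k) := h₃
  have h₄ : (π₂ ≫ x₂) ≫ X₂.d j k = x₁ ≫ t.f k := by
    have := congrArg (fun z => z ≫ (biprod.fst : X₂.X k ⊞ X₃.X k ⟶ X₂.X k)) h₃'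
    simpa using this
  obtain ⟨T₃, π₃, hπ₃, y₂, x₁', h₅⟩ := ht i j k hij hjk (π₂ ≫ x₂) x₁ h₄
  refine ⟨T₃, π₃ ≫ π₂ ≫ π₁, epi_comp' hπ₃ (epi_comp' hπ₂ hπ₁), y₂ ≫ r.f i,
    x₁' ≫ l.f j + π₃ ≫ π₂ ≫ x₃', ?_⟩
  have hw : t.f j ≫ r.f j = l.f j ≫ b.f j := sqj.w
  have h₆ : (π₃ ≫ π₂ ≫ π₁) ≫ y₄ = (π₃ ≫ π₂ ≫ x₂) ≫ r.f j + (π₃ ≫ π₂ ≫ x₃') ≫ b.f j := by
    simp only [Category.assoc, h₁, Preadditive.comp_add]
  rw [h₆, h₅]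
  simp only [Preadditive.add_comp, Category.assoc, hw, r.comm]
  abel

end Groth.Agent.Lib.Helper2.KInj
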