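import Mathlib
import Groth.Agent.Lib.Helper2.KInj.Bound
import Groth.Agent.Lib.Helper2.KInj.Pushout

/-!
# The step lemma (helper2)

Any monomorphic quasi-isomorphism which is not an isomorphism factors through a strictly larger
subobject obtained as a pushout of a map in a small family `S`.
-/

set_option autoImplicit false
universe v u
open CategoryTheory Limits HomologicalComplex

namespace Groth.Agent.Lib.Helper2.KInj

variable {A : Type u} [Category.{v} A] [Abelian A] [IsGrothendieckAbelian.{v} A]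

section

variable {X Y : CochainComplex A ℤ} (p : X ⟶ Y) [Mono p] (hp : RC p) (n₀ : ℤ)
  (ε₀ : separator A ⟶ Y.X (n₀ - ((0 : ℕ) : ℤ)))

local notation "FF" => bdMap n₀ (εN p hp n₀ ε₀)

/-- the pullback of `p` along the map from the bound complex satisfies the relative cycle
condition -/
lemma RC_pullback_snd :
    RC (pullback.snd p (bdMap n₀ (εN p hp n₀ ε₀))) := by
  intro i j k hij hjk T b x h
  have sqj : IsPullback ((pullback.fst p FF).f j) ((pullback.snd p FF).f j) (p.f j) ((FF).f j) :=
    (IsPullback.of_hasPullback p FF).map (eval A (ComplexShape.up ℤ) j)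
  have sqk : IsPullback ((pullback.fst p FF).f k) ((pullback.snd p FF).f k) (p.f k) ((FF).f k) :=
    (IsPullback.of_hasPullback p FF).map (eval A (ComplexShape.up ℤ) k)
  obtain ⟨b₁, b₂, hb⟩ := bdMap_decomp n₀ (εN p hp n₀ ε₀) j b
  have h1 : b₁ ≫ φ₁ n₀ (εN p hp n₀ ε₀) j ≫ Y.d j k =
      (x ≫ (pullback.fst p FF).f k) ≫ p.f k := by
    have h2 : (b ≫ (FF).f j) ≫ Y.d j k = (x ≫ (pullback.fst p FF).f k) ≫ p.f k := by
      rw [Category.assoc, (FF).comm, ← Category.assoc, h, Category.assoc, Category.assoc, sqk.w]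
    rw [hb, Preadditive.add_comp, Category.assoc, Category.assoc, φ₂_d, comp_zero, add_zero] at h2
    exact h2
  obtain ⟨T', π, hπ, y, x', hy⟩ := bdMap_good_aux p hp n₀ ε₀ i j k hij hjk b₁ b₂ _ h1
  have h3 : x' ≫ p.f j = (π ≫ b - (y ≫ bdInl n₀ i) ≫ (Bd (A := A) n₀).d i j) ≫ (FF).f j := by
    rw [Preadditive.sub_comp, Category.assoc, Category.assoc, Category.assoc, ← (FF).comm,
      bdInl_bdMap_assoc, hb, hy]
    abel
  refine ⟨T', π, hπ, y ≫ bdInl n₀ i, sqj.lift x' _ h3, ?_⟩
  rw [sqj.lift_snd]
  abel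

end

/-- the index type of the generating family -/
abbrev GenIdx (A : Type u) [Category.{v} A] [Abelian A] [IsGrothendieckAbelian.{v} A] :
    Type (max u v) :=
  Σ n₀ : ℤ, {T : Subobject (Bd (A := A) n₀) // QuasiIso T.arrow}

/-- the generating family of monomorphic quasi-isomorphisms -/
def genS (A : Type u) [Category.{v} A] [Abelian A] [IsGrothendieckAbelian.{v} A] :
    MorphismProperty (CochainComplex A ℤ) :=
  MorphismProperty.ofHoms (fun x : GenIdx A => x.2.1.arrow)

/-- the class of monomorphic quasi-isomorphisms -/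
def monoQis (A : Type u) [Category.{v} A] [Abelian A] : MorphismProperty (CochainComplex A ℤ) :=
  MorphismProperty.monomorphisms (CochainComplex A ℤ) ⊓
    HomologicalComplex.quasiIso A (ComplexShape.up ℤ)

lemma monoQis_iff {X Y : CochainComplex A ℤ} (f : X ⟶ Y) :
    monoQis A f ↔ Mono f ∧ QuasiIso f := by
  rw [monoQis, MorphismProperty.inf_iff, MorphismProperty.monomorphisms.iff, mem_quasiIso_iff]

lemma genS_le_monoQis : genS A ≤ monoQis A := by
  rintro _ _ _ ⟨x⟩
  exact (monoQis_iff _).2 ⟨inferInstance, x.2.2⟩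

lemma monoQis.of_isPushout {X₁ X₂ X₃ X₄ : CochainComplex A ℤ} {t : X₁ ⟶ X₂} {l : X₁ ⟶ X₃}
    {r : X₂ ⟶ X₄} {b : X₃ ⟶ X₄} (sq : IsPushout t l r b) (ht : monoQis A t) : monoQis A b := by
  obtain ⟨h1, h2⟩ := (monoQis_iff _).1 ht
  have hb : Mono b :=
    (MorphismProperty.monomorphisms _).of_isPushout sq.flip h1
  exact (monoQis_iff _).2 ⟨hb, RC.quasiIso b (RC.of_isPushout sq (RC.of_quasiIso t))⟩

lemma genS_pushouts_le_monoQis : (genS A).pushouts ≤ monoQis A := by
  rintro _ _ _ ⟨_, _, _, _, _, hf, sq⟩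
  exact monoQis.of_isPushout sq.flip (genS_le_monoQis _ hf)

/-- If `p : X ⟶ Y` is a monomorphic quasi-isomorphism that is not an isomorphism, there is a
strictly larger subobject `X'` of `Y` such that `X ⟶ X'` is a pushout of a morphism in `genS`
and `X' ⟶ Y` is still a (monomorphic) quasi-isomorphism. -/
lemma exists_pushouts {X Y : CochainComplex A ℤ} (p : X ⟶ Y) [Mono p] [QuasiIso p]
    (hp : ¬ IsIso p) :
    ∃ (X' : CochainComplex A ℤ) (i : X ⟶ X') (p' : X' ⟶ Y) (_ : (genS A).pushouts i)
      (_ : ¬ IsIso i) (_ : Mono p') (_ : QuasiIso p'), i ≫ p' = p := by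
  have hRC : RC p := RC.of_quasiIso p
  -- a degree where `p` is not an isomorphism
  obtain ⟨n₀, hn₀⟩ : ∃ n₀, ¬ IsIso (p.f n₀) := by
    by_contra! h
    exact hp (HomologicalComplex.Hom.isIso_of_components p)
  have hmono : Mono (p.f n₀) := inferInstance
  rw [(isSeparator_separator A).isDetector.isIso_iff_of_mono] at hn₀
  simp only [ObjectProperty.singleton_iff, Function.Surjective, Functor.flip_obj_map, forall_eq',
    not_forall, not_exists] at hn₀
  obtain ⟨g, hg⟩ := hn₀
  change separator A ⟶ Y.X n₀ at g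
  have hg' : ∀ x : separator A ⟶ X.X n₀, x ≫ p.f n₀ ≠ g := fun x hx => hg x hx
  have h0 : n₀ = n₀ - ((0 : ℕ) : ℤ) := by simp
  let ε₀ : separator A ⟶ Y.X (n₀ - ((0 : ℕ) : ℤ)) := g ≫ (Y.XIsoOfEq h0).hom
  let F := bdMap n₀ (εN p hRC n₀ ε₀)
  have hj : RC (pullback.snd p F) := RC_pullback_snd p hRC n₀ ε₀
  haveI : Mono (pullback.snd p F) := inferInstance
  have hjq : QuasiIso (pullback.snd p F) := RC.quasiIso _ hj
  have hS : genS A (Subobject.mk (pullback.snd p F)).arrow := by
    refine ⟨(⟨n₀, ⟨Subobject.mk (pullback.snd p F), ?_⟩⟩ : GenIdx A)⟩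
    have : (Subobject.mk (pullback.snd p F)).arrow =
        (Subobject.underlyingIso (pullback.snd p F)).hom ≫ pullback.snd p F := by simp
    rw [this]
    infer_instance
  have hpush : (genS A).pushouts (pushout.inl (pullback.fst p F) (pullback.snd p F)) :=
    ⟨_, _, _, (Subobject.underlyingIso _).hom ≫ pullback.fst _ _, pushout.inr _ _, hS,
      (IsPushout.of_hasPushout (pullback.fst p F) (pullback.snd p F)).of_iso
        ((Subobject.underlyingIso _).symm) (Iso.refl _) (Iso.refl _)
        (Iso.refl _) (by simp) (by simp) (by simp) (by simp)⟩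
  have hmonoQ := genS_pushouts_le_monoQis _ hpush
  have hfac : pushout.inl (pullback.fst p F) (pullback.snd p F) ≫
      pushout.desc p F pullback.condition = p := pushout.inl_desc _ _ _
  have h1 : pushout.inr (pullback.fst p F) (pullback.snd p F) ≫
      pushout.desc p F pullback.condition = F := pushout.inr_desc _ _ _
  have hmono' : Mono (pushout.desc p F pullback.condition) :=
    (IsPushout.of_hasPushout _ _).mono_of_isPullback_of_mono
      (IsPullback.of_hasPullback p F) _ hfac h1
  refine ⟨pushout (pullback.fst p F) (pullback.snd p F), pushout.inl _ _,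
    pushout.desc p F pullback.condition, hpush, ?_, hmono', ?_, hfac⟩
  · intro hiso
    -- then `g` factors through `p.f n₀`
    have hu : bdTop n₀ ≫ F.f n₀ = g := by
      rw [bdTop_bdMap, εN_zero]
      change (g ≫ (Y.XIsoOfEq h0).hom) ≫ (Y.XIsoOfEq _).hom = g
      rw [Category.assoc, XIsoOfEq_hom_comp_XIsoOfEq_hom, XIsoOfEq_rfl, Iso.refl_hom,
        Category.comp_id]
    apply hg' (bdTop n₀ ≫ (pushout.inr (pullback.fst p F) (pullback.snd p F)).f n₀ ≫
      (inv (pushout.inl (pullback.fst p F) (pullback.snd p F))).f n₀)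
    have h2 : (inv (pushout.inl (pullback.fst p F) (pullback.snd p F))) ≫ p =
        pushout.desc p F pullback.condition := by
      rw [IsIso.inv_comp_eq, hfac]
    have h3 := congrArg (fun φ => φ.f n₀) h2
    have h4 := congrArg (fun φ => φ.f n₀) h1
    dsimp at h3 h4
    rw [Category.assoc, Category.assoc, h3, h4, hu]
  · haveI := ((monoQis_iff _).1 hmonoQ).2
    haveI : QuasiIso (pushout.inl (pullback.fst p F) (pullback.snd p F) ≫
        pushout.desc p F pullback.condition) := by rw [hfac]; infer_instance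
    exact quasiIso_of_comp_left (pushout.inl (pullback.fst p F) (pullback.snd p F))
      (pushout.desc p F pullback.condition)

end Groth.Agent.Lib.Helper2.KInj
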