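import Mathlib
import Groth.Agent.Lib.Helper2.KInj.Step
import Groth.Agent.Lib.Helper2.KInj.FilteredQuasiIso

/-!
# Closure properties of monomorphic quasi-isomorphisms (helper2)
-/

set_option autoImplicit false
universe v u
open CategoryTheory Limits HomologicalComplex MorphismProperty

namespace Groth.Agent.Lib.Helper2.KInj

variable {A : Type u} [Category.{v} A] [Abelian A]

instance : (monoQis A).IsMultiplicative := by unfold monoQis; infer_instance
instance : (monoQis A).RespectsIso := by unfold monoQis; infer_instance
instance : (monoQis A).IsStableUnderRetracts := by unfold monoQis; infer_instance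

lemma isStableUnderColimitsOfShape_monoQis (J : Type*) [Category* J]
    [HasColimitsOfShape J A] [HasExactColimitsOfShape J A]
    [(monomorphisms (CochainComplex A ℤ)).IsStableUnderColimitsOfShape J] :
    (monoQis A).IsStableUnderColimitsOfShape J where
  condition X₁ X₂ c₁ c₂ hc₁ hc₂ f hf φ hφ :=
    ⟨IsStableUnderColimitsOfShape.condition (W := monomorphisms (CochainComplex A ℤ))
        X₁ X₂ c₁ c₂ hc₁ hc₂ f (fun j => (hf j).1) φ hφ,
      IsStableUnderColimitsOfShape.condition
        (W := HomologicalComplex.quasiIso A (ComplexShape.up ℤ))
        X₁ X₂ c₁ c₂ hc₁ hc₂ f (fun j => (hf j).2) φ hφ⟩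

variable [IsGrothendieckAbelian.{v} A]

instance : (monoQis A).IsStableUnderCobaseChange where
  of_isPushout sq hf := monoQis.of_isPushout sq.flip hf

instance : IsStableUnderFilteredColimits.{v, v} (monoQis A) where
  isStableUnderColimitsOfShape J _ _ := isStableUnderColimitsOfShape_monoQis J

instance (J : Type v) : (monoQis A).IsStableUnderCoproductsOfShape J :=
  isStableUnderColimitsOfShape_monoQis (Discrete J)

instance : IsStableUnderCoproducts.{v} (monoQis A) where

instance : IsStableUnderTransfiniteComposition.{v} (monoQis A) := inferInstance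

end Groth.Agent.Lib.Helper2.KInj
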