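import Mathlib

/-!
# Lifting against monomorphic quasi-isomorphisms implies K-injectivity (helper2)

If every morphism `B ⟶ I` extends along any monomorphic quasi-isomorphism `B ⟶ C`, then `I` is
K-injective and has injective terms.
-/

set_option autoImplicit false
universe v u
open CategoryTheory Limits HomologicalComplex CochainComplex

namespace Groth.Agent.Lib.Helper2.KInj

variable {A : Type u} [Category.{v} A] [Abelian A]

lemma quasiIso_of_acyclic {K L : CochainComplex A ℤ} (f : K ⟶ L) (hK : K.Acyclic)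
    (hL : L.Acyclic) : QuasiIso f := by
  rw [quasiIso_iff]
  intro i
  rw [quasiIsoAt_iff_exactAt f i (hK i)]
  exact hL i

lemma acyclic_of_homotopy_id_zero {K : CochainComplex A ℤ} (h : Homotopy (𝟙 K) 0) :
    K.Acyclic := by
  intro i
  rw [exactAt_iff_isZero_homology, IsZero.iff_id_eq_zero, ← homologyMap_id, h.homologyMap_eq i,
    homologyMap_zero]

section Cone

variable (K : CochainComplex A ℤ)

/-- the cone of the identity is contractible -/
noncomputable def coneIdHomotopy : Homotopy (𝟙 (mappingCone (𝟙 K))) 0 :=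
  mappingCone.liftHomotopy _ _ _ (mappingCone.snd _) 0 (by simp) (by simp)

lemma acyclic_coneId : (mappingCone (𝟙 K)).Acyclic :=
  acyclic_of_homotopy_id_zero (coneIdHomotopy K)

instance mono_inr_coneId : Mono (mappingCone.inr (𝟙 K)) := by
  haveI : ∀ n, Mono ((mappingCone.inr (𝟙 K)).f n) := fun n =>
    mono_of_mono_fac (mappingCone.inr_f_snd_v (𝟙 K) n)
  exact HomologicalComplex.mono_of_mono_f (mappingCone.inr (𝟙 K)) inferInstance

end Cone

section Disk

variable (n : ℤ)

lemma up_rel_succ : (ComplexShape.up ℤ).Rel n (n + 1) := rfl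

lemma ne_succ : n ≠ n + 1 := by omega

/-- the disk on `P` in degrees `n` and `n + 1` -/
noncomputable def disk (P : A) : CochainComplex A ℤ :=
  HomologicalComplex.double (𝟙 P) (up_rel_succ n)

/-- the degree `n` term of the disk -/
noncomputable def diskIso₀ (P : A) : (disk n P).X n ≅ P := doubleXIso₀ (𝟙 P) (up_rel_succ n)

/-- the degree `n + 1` term of the disk -/
noncomputable def diskIso₁ (P : A) : (disk n P).X (n + 1) ≅ P :=
  doubleXIso₁ (𝟙 P) (up_rel_succ n) (ne_succ n)

lemma disk_d (P : A) :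
    (disk n P).d n (n + 1) = (diskIso₀ n P).hom ≫ (diskIso₁ n P).inv := by
  have := double_d (𝟙 P) (up_rel_succ n) (ne_succ n)
  rw [Category.id_comp] at this
  exact this

lemma isZero_disk_X (P : A) (k : ℤ) (h₀ : k ≠ n) (h₁ : k ≠ n + 1) : IsZero ((disk n P).X k) :=
  isZero_double_X (𝟙 P) (up_rel_succ n) k h₀ h₁

/-- maps out of the disk -/
noncomputable def diskDesc {P : A} {K : CochainComplex A ℤ} (φ : P ⟶ K.X n) : disk n P ⟶ K :=
  mkHomFromDouble (up_rel_succ n) (ne_succ n) φ (φ ≫ K.d n (n + 1)) (by simp) (by simp)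

lemma diskDesc_f₀ {P : A} {K : CochainComplex A ℤ} (φ : P ⟶ K.X n) :
    (diskDesc n φ).f n = (diskIso₀ n P).hom ≫ φ :=
  mkHomFromDouble_f₀ _ _ _ _ _ _

lemma diskDesc_f₁ {P : A} {K : CochainComplex A ℤ} (φ : P ⟶ K.X n) :
    (diskDesc n φ).f (n + 1) = (diskIso₁ n P).hom ≫ φ ≫ K.d n (n + 1) :=
  mkHomFromDouble_f₁ _ _ _ _ _ _

lemma acyclic_disk (P : A) : (disk n P).Acyclic := by
  intro j
  rw [exactAt_iff_exact_up_to_refinements (disk n P) (j - 1) j (j + 1) (by simp) (by simp)]
  intro T x₂ hx₂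
  by_cases h₀ : j = n
  · subst h₀
    refine ⟨T, 𝟙 T, inferInstance, 0, ?_⟩
    rw [disk_d] at hx₂
    have : x₂ = 0 := by
      rw [← cancel_mono ((diskIso₀ j P).hom ≫ (diskIso₁ j P).inv), hx₂, zero_comp]
    rw [this, comp_zero, zero_comp]
  · by_cases h₁ : j = n + 1
    · subst h₁
      refine ⟨T, 𝟙 T, inferInstance, x₂ ≫ (diskIso₁ n P).hom ≫ (diskIso₀ n P).inv ≫
        (XIsoOfEq _ (by omega : n = n + 1 - 1)).hom, ?_⟩
      simp only [Category.id_comp, Category.assoc, XIsoOfEq_hom_comp_d, disk_d,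
        Iso.inv_hom_id_assoc, Iso.hom_inv_id, Category.comp_id]
    · refine ⟨T, 𝟙 T, inferInstance, 0, ?_⟩
      rw [(isZero_disk_X n P j h₀ h₁).eq_of_tgt x₂ 0, comp_zero, zero_comp]

/-- functoriality of the disk -/
noncomputable def diskMap {P Q : A} (a : P ⟶ Q) : disk n P ⟶ disk n Q :=
  diskDesc n (a ≫ (diskIso₀ n Q).inv)

lemma diskMap_f₀ {P Q : A} (a : P ⟶ Q) :
    (diskMap n a).f n = (diskIso₀ n P).hom ≫ a ≫ (diskIso₀ n Q).inv :=
  diskDesc_f₀ n _

lemma diskMap_f₁ {P Q : A} (a : P ⟶ Q) :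
    (diskMap n a).f (n + 1) = (diskIso₁ n P).hom ≫ a ≫ (diskIso₁ n Q).inv := by
  rw [diskMap, diskDesc_f₁, disk_d]
  simp

instance mono_diskMap {P Q : A} (a : P ⟶ Q) [Mono a] : Mono (diskMap n a) := by
  haveI : ∀ k, Mono ((diskMap n a).f k) := fun k => by
    by_cases h₀ : k = n
    · subst h₀
      rw [diskMap_f₀]
      infer_instance
    · by_cases h₁ : k = n + 1
      · subst h₁
        rw [diskMap_f₁]
        infer_instance
      · exact (isZero_disk_X n P k h₀ h₁).mono _
  exact HomologicalComplex.mono_of_mono_f (diskMap n a) inferInstance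

end Disk

section

variable {I : CochainComplex A ℤ}
  (hI : ∀ {B C : CochainComplex A ℤ} (i : B ⟶ C), Mono i → QuasiIso i → ∀ (g : B ⟶ I),
    ∃ g' : C ⟶ I, i ≫ g' = g)

include hI

lemma isKInjective_of_lifting : I.IsKInjective where
  nonempty_homotopy_zero {K} f hK := by
    obtain ⟨g', hg'⟩ := hI (mappingCone.inr (𝟙 K)) inferInstance
      (quasiIso_of_acyclic _ hK (acyclic_coneId K)) f
    refine ⟨(Homotopy.ofEq ?_).trans ((((coneIdHomotopy K).compRight g').compLeft
      (mappingCone.inr (𝟙 K))).trans (Homotopy.ofEq ?_))⟩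
    · rw [Category.id_comp, hg']
    · simp

lemma injective_X_of_lifting (n : ℤ) : Injective (I.X n) where
  factors {P Q} g a _ := by
    obtain ⟨g', hg'⟩ := hI (diskMap n a) inferInstance
      (quasiIso_of_acyclic _ (acyclic_disk n P) (acyclic_disk n Q)) (diskDesc n g)
    refine ⟨(diskIso₀ n Q).inv ≫ g'.f n, ?_⟩
    have h1 := congrArg (fun φ => φ.f n) hg'
    dsimp at h1
    rw [diskMap_f₀, diskDesc_f₀] at h1
    rw [← cancel_epi (diskIso₀ n P).hom, ← h1]
    simp

end

end Groth.Agent.Lib.Helper2.KInj
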