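import Mathlib
import Groth.Agent.Lib.Helper2.KInj.Closure

/-!
# Monomorphic quasi-isomorphisms are transfinite compositions of pushouts of maps in `genS`
(helper2; adapted from Mathlib's `GrothendieckCategory/EnoughInjectives`)
-/

set_option autoImplicit false
universe v u
open CategoryTheory Limits HomologicalComplex MorphismProperty

namespace Groth.Agent.Lib.Helper2.KInj

variable {A : Type u} [Category.{v} A] [Abelian A] [IsGrothendieckAbelian.{v} A]

lemma isomorphisms_le_pushouts_genS :
    MorphismProperty.isomorphisms (CochainComplex A ℤ) ≤ (genS A).pushouts :=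
  MorphismProperty.isomorphisms_le_pushouts _
    (fun _ => ⟨_, _, _, ⟨(⟨0, ⟨⊤, inferInstance⟩⟩ : GenIdx A)⟩, 0, inferInstance⟩)

lemma quasiIso_mk_arrow_iff {X Y : CochainComplex A ℤ} (f : X ⟶ Y) [Mono f] :
    QuasiIso (Subobject.mk f).arrow ↔ QuasiIso f := by
  have : (Subobject.mk f).arrow = (Subobject.underlyingIso f).hom ≫ f := by simp
  rw [this]
  exact quasiIso_iff_comp_left _ _

lemma exists_larger_subobject {Y : CochainComplex A ℤ} (S : Subobject Y) (hS : S ≠ ⊤)
    (hq : QuasiIso S.arrow) :
    ∃ (S' : Subobject Y) (h : S < S'),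
      (genS A).pushouts (Subobject.ofLE S S' h.le) ∧ QuasiIso S'.arrow := by
  induction S using Subobject.ind with | _ f
  haveI : QuasiIso f := (quasiIso_mk_arrow_iff f).1 hq
  obtain ⟨X', i, p', hi, hi', hp', hq', fac⟩ := exists_pushouts f
    (by simpa only [Subobject.isIso_iff_mk_eq_top] using hS)
  refine ⟨Subobject.mk p', Subobject.mk_lt_mk_of_comm i fac hi',
    (MorphismProperty.arrow_mk_iso_iff _ ?_).2 hi, (quasiIso_mk_arrow_iff p').2 hq'⟩
  refine Arrow.isoMk (Subobject.underlyingIso f) (Subobject.underlyingIso p') ?_
  dsimp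
  simp only [← cancel_mono p', Category.assoc, fac,
    Subobject.underlyingIso_hom_comp_eq_mk, Subobject.ofLE_arrow]

variable {Y : CochainComplex A ℤ}

open scoped Classical in
/-- the step function on subobjects -/
noncomputable def largerSub (S : Subobject Y) : Subobject Y :=
  if h : S ≠ ⊤ ∧ QuasiIso S.arrow then (exists_larger_subobject S h.1 h.2).choose else ⊤

variable (Y) in
@[simp]
lemma largerSub_top : largerSub (⊤ : Subobject Y) = ⊤ := dif_neg (by simp)

lemma lt_largerSub (S : Subobject Y) (hS : S ≠ ⊤) : S < largerSub S := by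
  dsimp only [largerSub]
  split_ifs with h
  · exact (exists_larger_subobject S h.1 h.2).choose_spec.choose
  · exact lt_top_iff_ne_top.2 hS

lemma le_largerSub (S : Subobject Y) : S ≤ largerSub S := by
  by_cases hS : S = ⊤
  · subst hS
    simp only [largerSub_top, le_refl]
  · exact (lt_largerSub S hS).le

lemma quasiIso_largerSub (S : Subobject Y) (hq : QuasiIso S.arrow) :
    QuasiIso (largerSub S).arrow := by
  by_cases hS : S = ⊤
  · subst hS
    rw [largerSub_top]
    infer_instance
  · have h : S ≠ ⊤ ∧ QuasiIso S.arrow := ⟨hS, hq⟩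
    have : largerSub S = (exists_larger_subobject S h.1 h.2).choose := dif_pos h
    rw [this]
    exact (exists_larger_subobject S h.1 h.2).choose_spec.choose_spec.2

set_option backward.defeqAttrib.useBackward true in
set_option backward.isDefEq.respectTransparency false in
lemma pushouts_ofLE_le_largerSub (S : Subobject Y) (hq : QuasiIso S.arrow) :
    (genS A).pushouts (Subobject.ofLE _ _ (le_largerSub S)) := by
  by_cases hS : S = ⊤
  · subst hS
    have := (Subobject.isIso_arrow_iff_eq_top (largerSub (⊤ : Subobject Y))).2 (by simp)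
    exact (MorphismProperty.arrow_mk_iso_iff _
      (Arrow.isoMk (asIso (Subobject.arrow _)) (asIso (Subobject.arrow _)) (by simp))).2
        (isomorphisms_le_pushouts_genS (𝟙 Y)
          (MorphismProperty.isomorphisms.infer_property _))
  · have h : S ≠ ⊤ ∧ QuasiIso S.arrow := ⟨hS, hq⟩
    refine (MorphismProperty.arrow_mk_iso_iff _ ?_).1
      (exists_larger_subobject S h.1 h.2).choose_spec.choose_spec.1
    exact Arrow.isoMk (Iso.refl _)
      (Subobject.isoOfEq _ _ ((by simp [largerSub, dif_pos h])))

section

variable (S₀ : Subobject Y) (J : Type v) [LinearOrder J] [OrderBot J] [SuccOrder J]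
  [WellFoundedLT J]

/-- the functor `J ⥤ MonoOver Y` given by the transfinite iteration of `largerSub` -/
@[simps]
noncomputable def functorToMonoOver : J ⥤ MonoOver Y where
  obj j := MonoOver.mk (transfiniteIterate largerSub j S₀).arrow
  map {j j'} f := MonoOver.homMk (Subobject.ofLE _ _
      (monotone_transfiniteIterate _ _ le_largerSub (leOfHom f)))

/-- the induced functor to complexes -/
noncomputable abbrev functor : J ⥤ CochainComplex A ℤ :=
  functorToMonoOver S₀ J ⋙ MonoOver.forget _ ⋙ Over.forget _

set_option backward.defeqAttrib.useBackward true in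
instance : (functor S₀ J).IsWellOrderContinuous where
  nonempty_isColimit m hm := ⟨by
    have := hm.nonempty_Iio.to_subtype
    let c := (Set.principalSegIio m).cocone (functorToMonoOver S₀ J ⋙ MonoOver.forget _)
    have : Mono c.pt.hom := by dsimp [c]; infer_instance
    apply IsGrothendieckAbelian.isColimitMapCoconeOfSubobjectMkEqISup
      ((Set.principalSegIio m).monotone.functor ⋙ functorToMonoOver S₀ J) c
    dsimp [c]
    simp only [Subobject.mk_arrow]
    exact transfiniteIterate_limit largerSub S₀ m hm⟩

set_option backward.isDefEq.respectTransparency.types false in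
set_option backward.defeqAttrib.useBackward true in
variable {J} in
/-- the map from the bottom to the `j`-th stage is a transfinite composition of pushouts of maps
in `genS`, provided the earlier stages are quasi-isomorphic to `Y` -/
noncomputable def transfiniteCompositionOfShapeMapFromBot (j : J)
    (H : ∀ k, k < j → QuasiIso (transfiniteIterate largerSub k S₀).arrow) :
    (genS A).pushouts.TransfiniteCompositionOfShape (Set.Iic j)
    ((functor S₀ J).map (homOfLE bot_le : ⊥ ⟶ j)) where
  F := (Set.initialSegIic j).monotone.functor ⋙ functor S₀ J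
  isoBot := Iso.refl _
  incl :=
    { app k := (functor S₀ J).map (homOfLE k.2)
      naturality k k' h := by simp [MonoOver.forget] }
  isColimit := colimitOfDiagramTerminal isTerminalTop _
  map_mem k hk := by
    dsimp [MonoOver.forget]
    have hk' : k.1 < j := lt_of_le_of_ne k.2 (fun h => hk (by
      rw [isMax_iff_eq_top]
      exact Subtype.ext h))
    convert!
      pushouts_ofLE_le_largerSub (transfiniteIterate largerSub k.1 S₀) (H k.1 hk') using 2
    all_goals
      rw [Set.Iic.succ_eq_of_not_isMax hk,
        transfiniteIterate_succ _ _ _ (Set.not_isMax_coe _ hk)]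

variable {J} in
lemma quasiIso_transfiniteIterate (hS₀ : QuasiIso S₀.arrow) (j : J) :
    QuasiIso (transfiniteIterate largerSub j S₀).arrow := by
  induction j using WellFoundedLT.induction with | ind j IH
  let tc := transfiniteCompositionOfShapeMapFromBot S₀ j IH
  have hmem : monoQis A ((functor S₀ J).map (homOfLE bot_le : ⊥ ⟶ j)) :=
    transfiniteCompositionsOfShape_le (monoQis A) (Set.Iic j) _
      (tc.ofLE genS_pushouts_le_monoQis).mem
  have hle : transfiniteIterate largerSub (⊥ : J) S₀ ≤ transfiniteIterate largerSub j S₀ :=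
    monotone_transfiniteIterate _ _ le_largerSub bot_le
  have hmem' : monoQis A (Subobject.ofLE _ _ hle) := hmem
  haveI : QuasiIso (Subobject.ofLE _ _ hle) := ((monoQis_iff _).1 hmem').2
  have h2 : QuasiIso (Subobject.ofLE _ _ hle ≫ (transfiniteIterate largerSub j S₀).arrow) := by
    rw [Subobject.ofLE_arrow, transfiniteIterate_bot]
    exact hS₀
  exact (quasiIso_iff_comp_left _ _).1 h2

end

lemma top_mem_range (S₀ : Subobject Y) {J : Type v} [LinearOrder J] [OrderBot J] [SuccOrder J]
    [WellFoundedLT J] (hJ : HasCardinalLT (Subobject Y) (Cardinal.mk J)) :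
    ∃ (j : J), transfiniteIterate largerSub j S₀ = ⊤ :=
  top_mem_range_transfiniteIterate largerSub S₀ lt_largerSub (by simp)
    (fun h ↦ by simpa [hasCardinalLT_iff_cardinal_mk_lt] using hJ.of_injective _ h)

lemma exists_ordinal (S₀ : Subobject Y) :
    ∃ (o : Ordinal.{v}) (j : o.ToType), transfiniteIterate largerSub j S₀ = ⊤ := by
  let κ := Order.succ (Cardinal.mk (Shrink.{v} (Subobject Y)))
  have : Nonempty κ.ord.ToType := by simp [κ]
  have := WellFoundedLT.toOrderBot κ.ord.ToType
  exact ⟨κ.ord, top_mem_range S₀ (lt_of_lt_of_le (Order.lt_succ _) (by simp [κ]))⟩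

variable {X : CochainComplex A ℤ} {f : X ⟶ Y} [Mono f]

set_option backward.defeqAttrib.useBackward true in
set_option backward.isDefEq.respectTransparency false in
/-- if the iteration reaches `⊤`, then `f` is a transfinite composition of pushouts of maps in
`genS` -/
noncomputable def transfiniteCompositionOfShapeOfEqTop (hf : QuasiIso f)
    {J : Type v} [LinearOrder J] [OrderBot J] [SuccOrder J] [WellFoundedLT J] {j : J}
    (hj : transfiniteIterate largerSub j (Subobject.mk f) = ⊤) :
    (genS A).pushouts.TransfiniteCompositionOfShape (Set.Iic j) f := by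
  let t := transfiniteIterate largerSub j (Subobject.mk f)
  have := (Subobject.isIso_arrow_iff_eq_top t).2 hj
  apply (transfiniteCompositionOfShapeMapFromBot (Subobject.mk f) j
    (fun k _ => quasiIso_transfiniteIterate _ ((quasiIso_mk_arrow_iff f).2 hf) k)).ofArrowIso
  refine Arrow.isoMk ((Subobject.isoOfEq _ _ (transfiniteIterate_bot _ _) ≪≫
    Subobject.underlyingIso f)) (asIso t.arrow) ?_
  dsimp [MonoOver.forget]
  rw [Category.assoc, Subobject.underlyingIso_hom_comp_eq_mk, Subobject.ofLE_arrow,
    Subobject.ofLE_arrow]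

variable (f)

/-- any monomorphic quasi-isomorphism is a transfinite composition of pushouts of morphisms in
the small family `genS A` -/
lemma exists_transfiniteCompositionOfShape (hf : QuasiIso f) :
    ∃ (J : Type v) (_ : LinearOrder J) (_ : OrderBot J) (_ : SuccOrder J)
        (_ : WellFoundedLT J),
    Nonempty ((genS A).pushouts.TransfiniteCompositionOfShape J f) := by
  obtain ⟨o, j, hj⟩ := exists_ordinal (Subobject.mk f)
  have : Nonempty o.ToType := ⟨j⟩
  have : OrderBot o.ToType := WellFoundedLT.toOrderBot _
  exact ⟨_, _, _, _, _, ⟨transfiniteCompositionOfShapeOfEqTop hf hj⟩⟩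

lemma genS_rlp_le : (genS A).rlp ≤ (monoQis A).rlp := by
  intro X Y p hp B C i hi
  obtain ⟨h1, h2⟩ := (monoQis_iff _).1 hi
  obtain ⟨J, _, _, _, _, ⟨h⟩⟩ := exists_transfiniteCompositionOfShape i h2
  exact transfiniteCompositionsOfShape_le_llp_rlp _ _ _ h.mem _ (by simpa)

end Groth.Agent.Lib.Helper2.KInj
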