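import Mathlib
import Groth.Agent.Lib.Helper2.KInj.Transfinite
import Groth.Agent.Lib.Helper2.KInj.Closure
import Groth.Agent.Lib.Helper2.KInj.Lifting

/-!
# K-injective resolutions in Grothendieck abelian categories (helper2)

Every cochain complex in a Grothendieck abelian category admits a monomorphic quasi-isomorphism
to a K-injective complex with injective terms.
-/

set_option autoImplicit false
universe v u
open CategoryTheory Limits HomologicalComplex MorphismProperty ZeroObject

namespace Groth.Agent.Lib.Helper2.KInj

variable {A : Type u} [Category.{v} A] [Abelian A] [IsGrothendieckAbelian.{v} A]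

instance : MorphismProperty.IsSmall.{v} (genS A) := by
  dsimp [genS]
  infer_instance

lemma genS_le_monomorphisms : genS A ≤ monomorphisms (CochainComplex A ℤ) :=
  genS_le_monoQis.trans (by unfold monoQis; exact inf_le_left)

instance : HasSmallObjectArgument.{v} (genS A) := by
  obtain ⟨κ, hκ', hκ⟩ := HasCardinalLT.exists_regular_cardinal_forall.{v}
    (fun x : GenIdx A => Subobject (x.2.1 : CochainComplex A ℤ))
  have : Fact κ.IsRegular := ⟨hκ'⟩
  have : Nonempty κ.ord.ToType := by simpa using hκ'.ne_zero
  have := WellFoundedLT.toOrderBot κ.ord.ToType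
  exact ⟨κ, inferInstance, inferInstance,
    { preservesColimit {A' B X Y} i hi f hf := by
        let hf' : (monomorphisms (CochainComplex A ℤ)).TransfiniteCompositionOfShape
            κ.ord.ToType f :=
          { toTransfiniteCompositionOfShape := hf.toTransfiniteCompositionOfShape
            map_mem j hj := by
              have := (hf.attachCells j hj).pushouts_coproducts
              simp only [ofHoms_homFamily] at this
              refine (?_ : _ ≤ monomorphisms (CochainComplex A ℤ)) _ this
              simp only [pushouts_le_iff, coproducts_le_iff]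
              exact genS_le_monomorphisms }
        have (j j' : κ.ord.ToType) (φ : j ⟶ j') : Mono (hf'.F.map φ) := hf'.mem_map φ
        apply IsGrothendieckAbelian.preservesColimit_coyoneda_obj_of_mono (Y := hf'.F) (κ := κ)
        obtain ⟨x⟩ := hi
        exact hκ x }⟩

lemma genS_rlp_llp_le : (genS A).rlp.llp ≤ monoQis A := by
  rw [llp_rlp_of_hasSmallObjectArgument]
  trans (transfiniteCompositions.{v} (coproducts.{v} (monoQis A)).pushouts).retracts
  · apply retracts_monotone
    apply transfiniteCompositions_monotone
    apply pushouts_monotone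
    apply coproducts_monotone
    exact genS_le_monoQis
  · simp

/-- every complex embeds quasi-isomorphically into a complex having the right lifting property
with respect to all monomorphic quasi-isomorphisms -/
theorem exists_monoQis_to_rlp (M : CochainComplex A ℤ) :
    ∃ (I : CochainComplex A ℤ) (f : M ⟶ I), Mono f ∧ QuasiIso f ∧
      (∀ {B C : CochainComplex A ℤ} (i : B ⟶ C), Mono i → QuasiIso i → ∀ (g : B ⟶ I),
        ∃ g' : C ⟶ I, i ≫ g' = g) := by
  let fac : MapFactorizationData (genS A).rlp.llp (genS A).rlp (0 : M ⟶ 0) :=
    (functorialFactorizationData _ _).factorizationData _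
  obtain ⟨h1, h2⟩ := (monoQis_iff _).1 (genS_rlp_llp_le _ fac.hi)
  refine ⟨fac.Z, fac.i, h1, h2, ?_⟩
  intro B C i hi hq g
  have hp := genS_rlp_le _ fac.hp
  have sq : CommSq g i fac.p 0 := ⟨(isZero_zero _).eq_of_tgt _ _⟩
  have := hp i ((monoQis_iff _).2 ⟨hi, hq⟩)
  exact ⟨sq.lift, sq.fac_left⟩

/-- K-injective resolutions exist in Grothendieck abelian categories -/
theorem exists_kInjective_resolution (M : CochainComplex A ℤ) :
    ∃ (I : CochainComplex A ℤ) (f : M ⟶ I), I.IsKInjective ∧ QuasiIso f ∧ (∀ n, Mono (f.f n)) ∧
      ∀ n, Injective (I.X n) := by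
  obtain ⟨I, f, h1, h2, hI⟩ := exists_monoQis_to_rlp M
  exact ⟨I, f, isKInjective_of_lifting hI, h2, fun n => inferInstance,
    fun n => injective_X_of_lifting hI n⟩

end Groth.Agent.Lib.Helper2.KInj
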