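import Mathlib

/-!
# A right adjoint of a localized functor is a right derived functor (helper2)

Let `adj : F ⊣ G` with `F : C₁ ⥤ C₂`, let `L₁`, `L₂` be localization functors, `F' : D₁ ⥤ D₂` a
functor with `L₁ ⋙ F' ≅ F ⋙ L₂`, and `adj' : F' ⊣ R'`. Then `R'` equipped with the canonical
natural transformation `G ⋙ L₁ ⟶ L₂ ⋙ R'` is a right derived functor of `G ⋙ L₁`.
In particular, any right derived functor of `G ⋙ L₁` is right adjoint to `F'`.
-/

set_option autoImplicit false
open CategoryTheory Functor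

namespace Groth.Agent.Lib.Helper2.KInj

section

variable {C₁ C₂ D₁ D₂ : Type*} [Category C₁] [Category C₂] [Category D₁] [Category D₂]
  {F : C₁ ⥤ C₂} {G : C₂ ⥤ C₁} (adj : F ⊣ G)
  {L₁ : C₁ ⥤ D₁} {L₂ : C₂ ⥤ D₂} (W₁ : MorphismProperty C₁) (W₂ : MorphismProperty C₂)
  {F' : D₁ ⥤ D₂} {R' : D₂ ⥤ D₁} (e : L₁ ⋙ F' ≅ F ⋙ L₂) (adj' : F' ⊣ R')

/-- the canonical comparison `G ⋙ L₁ ⟶ L₂ ⋙ R'` -/
def rightAdjUnit : G ⋙ L₁ ⟶ L₂ ⋙ R' where
  app Y := adj'.unit.app (L₁.obj (G.obj Y)) ≫
    R'.map (e.hom.app (G.obj Y) ≫ L₂.map (adj.counit.app Y))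
  naturality Y Y' f := by
    have h1 := adj'.unit.naturality (L₁.map (G.map f))
    have h2 := e.hom.naturality (G.map f)
    have h3 := adj.counit.naturality f
    dsimp at h1 h2 h3 ⊢
    rw [reassoc_of% h1, Category.assoc, ← R'.map_comp, ← R'.map_comp, reassoc_of% h2,
      ← L₂.map_comp, h3, L₂.map_comp, Category.assoc]

lemma unit_comp_rightAdjUnit (X : C₁) :
    L₁.map (adj.unit.app X) ≫ (rightAdjUnit adj e adj').app (F.obj X) =
      adj'.unit.app (L₁.obj X) ≫ R'.map (e.hom.app X) := by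
  have h1 := adj'.unit.naturality (L₁.map (adj.unit.app X))
  have h2 := e.hom.naturality (adj.unit.app X)
  dsimp at h1 h2
  dsimp [rightAdjUnit]
  rw [reassoc_of% h1, ← R'.map_comp, reassoc_of% h2, ← L₂.map_comp,
    adj.left_triangle_components, L₂.map_id, Category.comp_id]

variable [L₁.IsLocalization W₁] [L₂.IsLocalization W₂]

section

variable {H : D₂ ⥤ D₁} (β : G ⋙ L₁ ⟶ L₂ ⋙ H)

/-- auxiliary transformation on `C₁` -/
def descAux₀ : L₁ ⟶ L₁ ⋙ F' ⋙ H where
  app X := L₁.map (adj.unit.app X) ≫ β.app (F.obj X) ≫ H.map (e.inv.app X)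
  naturality X X' f := by
    have h1 := adj.unit.naturality f
    have h2 := β.naturality (F.map f)
    have h3 := e.inv.naturality f
    dsimp at h1 h2 h3 ⊢
    rw [← L₁.map_comp_assoc, h1, L₁.map_comp_assoc, reassoc_of% h2, Category.assoc,
      Category.assoc, ← H.map_comp, ← H.map_comp, h3]

/-- auxiliary transformation on `D₁` -/
noncomputable def descAux₁ : 𝟭 D₁ ⟶ F' ⋙ H :=
  Localization.liftNatTrans L₁ W₁ L₁ (L₁ ⋙ F' ⋙ H) (𝟭 D₁) (F' ⋙ H) (descAux₀ adj e β)

lemma descAux₁_app (X : C₁) :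
    (descAux₁ adj W₁ e β).app (L₁.obj X) =
      L₁.map (adj.unit.app X) ≫ β.app (F.obj X) ≫ H.map (e.inv.app X) := by
  dsimp [descAux₁]
  rw [Localization.liftNatTrans_app]
  simp [descAux₀]

/-- the morphism from `R'` induced by `β` -/
noncomputable def rightAdjDesc : R' ⟶ H where
  app Y := (descAux₁ adj W₁ e β).app (R'.obj Y) ≫ H.map (adj'.counit.app Y)
  naturality Y Y' f := by
    have h1 := (descAux₁ adj W₁ e β).naturality (R'.map f)
    have h2 := adj'.counit.naturality f
    dsimp at h1 h2 ⊢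
    rw [reassoc_of% h1, Category.assoc, ← H.map_comp, ← H.map_comp, h2]

lemma rightAdjDesc_fac :
    rightAdjUnit adj e adj' ≫ whiskerLeft L₂ (rightAdjDesc adj W₁ e adj' β) = β := by
  ext Y
  have h1 := (descAux₁ adj W₁ e β).naturality ((rightAdjUnit adj e adj').app Y)
  have h2 := adj'.counit.naturality (e.hom.app (G.obj Y) ≫ L₂.map (adj.counit.app Y))
  have h3 := β.naturality (adj.counit.app Y)
  dsimp at h1 h2 h3
  have h4 : F'.map ((rightAdjUnit adj e adj').app Y) ≫ adj'.counit.app (L₂.obj Y) =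
      e.hom.app (G.obj Y) ≫ L₂.map (adj.counit.app Y) := by
    dsimp [rightAdjUnit]
    rw [F'.map_comp, Category.assoc, h2, adj'.left_triangle_components_assoc]
  dsimp [rightAdjDesc]
  rw [reassoc_of% h1, ← H.map_comp, descAux₁_app, h4, H.map_comp]
  simp only [Category.assoc]
  rw [← H.map_comp_assoc, Iso.inv_hom_id_app]
  erw [H.map_id]
  rw [Category.id_comp, ← h3, ← L₁.map_comp_assoc, adj.right_triangle_components]
  simp

end

include W₁ in
lemma rightAdj_ext {H : D₂ ⥤ D₁} (γ γ' : R' ⟶ H)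
    (h : rightAdjUnit adj e adj' ≫ whiskerLeft L₂ γ = rightAdjUnit adj e adj' ≫ whiskerLeft L₂ γ') :
    γ = γ' := by
  -- reduce to the transformations `𝟭 D₁ ⟶ F' ⋙ H`
  have key : adj'.unit ≫ whiskerLeft F' γ = adj'.unit ≫ whiskerLeft F' γ' := by
    apply Localization.natTrans_ext L₁ W₁
    intro X
    have h0 := congrArg (fun t => L₁.map (adj.unit.app X) ≫ t.app (F.obj X)) h
    dsimp at h0
    rw [reassoc_of% (unit_comp_rightAdjUnit adj e adj' X),
      reassoc_of% (unit_comp_rightAdjUnit adj e adj' X)] at h0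
    have h1 := γ.naturality (e.hom.app X)
    have h2 := γ'.naturality (e.hom.app X)
    dsimp at h1 h2 ⊢
    rw [h1, h2] at h0
    have : IsIso (H.map (e.hom.app X)) := inferInstance
    rw [← Category.assoc, ← Category.assoc, cancel_mono] at h0
    exact h0
  ext Y
  have h1 := γ.naturality (adj'.counit.app Y)
  have h2 := γ'.naturality (adj'.counit.app Y)
  have h3 := congrArg (fun t => t.app (R'.obj Y) ≫ H.map (adj'.counit.app Y)) key
  dsimp at h1 h2 h3
  rw [Category.assoc, Category.assoc, ← h1, ← h2, adj'.right_triangle_components_assoc,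
    adj'.right_triangle_components_assoc] at h3
  exact h3

include W₁ in
/-- a right adjoint of a localized left adjoint is a right derived functor -/
theorem isRightDerivedFunctor_of_adjunction :
    R'.IsRightDerivedFunctor (rightAdjUnit adj e adj') W₂ where
  isLeftKanExtension :=
    ⟨⟨Limits.IsInitial.ofUniqueHom
      (fun Y => StructuredArrow.homMk (rightAdjDesc adj W₁ e adj' Y.hom)
        (rightAdjDesc_fac adj W₁ e adj' Y.hom))
      (fun Y m => by
        apply StructuredArrow.ext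
        apply rightAdj_ext adj W₁ e adj'
        have := StructuredArrow.w m
        exact this.trans (rightAdjDesc_fac adj W₁ e adj' Y.hom).symm)⟩⟩

include W₁ adj e adj' in
/-- any right derived functor of `G ⋙ L₁` is right adjoint to `F'` when `F'` has a right
adjoint -/
theorem nonempty_adjunction_of_isRightDerivedFunctor (RG : D₂ ⥤ D₁) (α : G ⋙ L₁ ⟶ L₂ ⋙ RG)
    [RG.IsRightDerivedFunctor α W₂] : Nonempty (F' ⊣ RG) := by
  haveI := isRightDerivedFunctor_of_adjunction adj W₁ W₂ e adj'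
  exact ⟨adj'.ofNatIsoRight
    (Functor.rightDerivedUnique R' RG (rightAdjUnit adj e adj') α W₂)⟩

end

end Groth.Agent.Lib.Helper2.KInj
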