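import Mathlib
import Groth.Agent.Lib.Helper2.DerivedAdj
import Groth.Agent.Lib.Helper2.KInjectiveDerived
import Groth.Agent.Lib.Helper2.KInj.Main
import Groth.Agent.Lib.Helper2.KInj.DerivedRightAdj

/-!
# The derived adjunction `F ⊣ RG` for an exact left adjoint `F` (helper2)

Let `adj : F ⊣ G` be an adjunction between additive functors of abelian categories, with `F` exact,
and assume that every complex of the source of `G` has a K-injective resolution. Then for any right
derived functor `RG` of `G` (on homotopy categories), `F.mapDerivedCategory ⊣ RG`.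
-/

set_option autoImplicit false
universe w₁ w₂ v₁ v₂ v₃ u₁ u₂ u₃
open CategoryTheory Limits

namespace Groth.Agent.Lib.Helper2

namespace LocalRes

variable {C : Type u₁} [Category.{v₁} C] (W : MorphismProperty C)
  (hres : ∀ X : C, ∃ (Y : C) (f : X ⟶ Y), W.isLocal Y ∧ W f)
  [W.HasTwoOutOfThreeProperty] [W.IsMultiplicative]
  {H : Type u₂} [Category.{v₂} H] (F : C ⥤ H)

include hres in
lemma isRightDerivedFunctor_of_isIso {D : Type u₃} [Category.{v₃} D] (L : C ⥤ D)
    [L.IsLocalization W] {RF : D ⥤ H} (α : F ⟶ L ⋙ RF)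
    (hα : ∀ X : C, W.isLocal X → IsIso (α.app X)) : RF.IsRightDerivedFunctor α W := by
  have := isRightDerivabilityStructure W hres
  exact (derives W F).isRightDerivedFunctor_of_isIso α (fun X => hα X.obj X.property)

end LocalRes

namespace KInj

section

variable {A : Type u₁} [Category.{v₁} A] [Abelian A] {B : Type u₂} [Category.{v₂} B] [Abelian B]
  {F : A ⥤ B} {G : B ⥤ A} [F.Additive] [G.Additive] (adj : F ⊣ G)

/-- the adjunction on homotopy categories induced by an adjunction of additive functors -/
noncomputable def homotopyAdj :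
    F.mapHomotopyCategory (ComplexShape.up ℤ) ⊣ G.mapHomotopyCategory (ComplexShape.up ℤ) :=
  letI : CatCommSq (F.mapHomologicalComplex (ComplexShape.up ℤ))
      (HomotopyCategory.quotient A (ComplexShape.up ℤ))
      (HomotopyCategory.quotient B (ComplexShape.up ℤ))
      (F.mapHomotopyCategory (ComplexShape.up ℤ)) :=
    ⟨(F.mapHomotopyCategoryFactors (ComplexShape.up ℤ)).symm⟩
  letI : CatCommSq (G.mapHomologicalComplex (ComplexShape.up ℤ))
      (HomotopyCategory.quotient B (ComplexShape.up ℤ))
      (HomotopyCategory.quotient A (ComplexShape.up ℤ))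
      (G.mapHomotopyCategory (ComplexShape.up ℤ)) :=
    ⟨(G.mapHomotopyCategoryFactors (ComplexShape.up ℤ)).symm⟩
  (DerivedAdj.mapHomologicalComplexAdj adj (ComplexShape.up ℤ)).localization
    (HomotopyCategory.quotient A (ComplexShape.up ℤ))
    (HomologicalComplex.homotopyEquivalences A (ComplexShape.up ℤ))
    (HomotopyCategory.quotient B (ComplexShape.up ℤ))
    (HomologicalComplex.homotopyEquivalences B (ComplexShape.up ℤ))
    (F.mapHomotopyCategory (ComplexShape.up ℤ)) (G.mapHomotopyCategory (ComplexShape.up ℤ))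

variable [HasDerivedCategory.{w₁} A] [HasDerivedCategory.{w₂} B]
  [PreservesFiniteLimits F] [PreservesFiniteColimits F]
  (hKinj : ∀ K : CochainComplex B ℤ, ∃ (I : CochainComplex B ℤ) (f : K ⟶ I),
    I.IsKInjective ∧ QuasiIso f)
  (RG : DerivedCategory B ⥤ DerivedCategory A)
  (β : G.mapHomotopyCategory (ComplexShape.up ℤ) ⋙ DerivedCategory.Qh ⟶ DerivedCategory.Qh ⋙ RG)
  [RG.IsRightDerivedFunctor β (HomotopyCategory.quasiIso B (ComplexShape.up ℤ))]

include hKinj in
lemma isIso_app_of_isLocal (X : HomotopyCategory B (ComplexShape.up ℤ))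
    (hX : (HomotopyCategory.quasiIso B (ComplexShape.up ℤ)).isLocal X) : IsIso (β.app X) :=
  LocalRes.isIso_unit_app _ (exists_local_resolution hKinj) _ DerivedCategory.Qh β X hX

lemma isLeftDerived₁ : F.mapDerivedCategory.IsLeftDerivedFunctor F.mapDerivedCategoryFactorsh.hom
    (HomotopyCategory.quasiIso A (ComplexShape.up ℤ)) :=
  Functor.isLeftDerivedFunctor_of_inverts _ _ F.mapDerivedCategoryFactorsh

lemma isLeftDerived₂ : (F.mapDerivedCategory ⋙ RG).IsLeftDerivedFunctor
    ((Functor.associator _ _ _).inv ≫ Functor.whiskerRight F.mapDerivedCategoryFactorsh.hom RG)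
    (HomotopyCategory.quasiIso A (ComplexShape.up ℤ)) :=
  Functor.isLeftDerivedFunctor_of_inverts _ _
    ((Functor.associator _ _ _).symm ≪≫ Functor.isoWhiskerRight F.mapDerivedCategoryFactorsh RG)

include hKinj in
lemma isRightDerived₃ : (RG ⋙ F.mapDerivedCategory).IsRightDerivedFunctor
    (Functor.whiskerRight β F.mapDerivedCategory ≫ (Functor.associator _ _ _).hom)
    (HomotopyCategory.quasiIso B (ComplexShape.up ℤ)) := by
  apply LocalRes.isRightDerivedFunctor_of_isIso _ (exists_local_resolution hKinj)
  intro X hX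
  haveI := isIso_app_of_isLocal hKinj RG β X hX
  dsimp
  infer_instance

include hKinj in
/-- the derived adjunction -/
noncomputable def derivedAdjK : F.mapDerivedCategory ⊣ RG :=
  haveI := isLeftDerived₁ (F := F)
  haveI := isLeftDerived₂ (F := F) RG
  haveI := isRightDerived₃ (F := F) hKinj RG β
  (homotopyAdj adj).derived (HomotopyCategory.quasiIso A (ComplexShape.up ℤ))
    (HomotopyCategory.quasiIso B (ComplexShape.up ℤ)) F.mapDerivedCategoryFactorsh.hom β

lemma derivedAdjK_counit_fac (X : HomotopyCategory B (ComplexShape.up ℤ)) :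
    F.mapDerivedCategory.map (β.app X) ≫
      (derivedAdjK adj hKinj RG β).counit.app (DerivedCategory.Qh.obj X) =
      F.mapDerivedCategoryFactorsh.hom.app ((G.mapHomotopyCategory (ComplexShape.up ℤ)).obj X) ≫
        DerivedCategory.Qh.map ((homotopyAdj adj).counit.app X) :=
  haveI := isLeftDerived₁ (F := F)
  haveI := isLeftDerived₂ (F := F) RG
  haveI := isRightDerived₃ (F := F) hKinj RG β
  (homotopyAdj adj).derivedε_fac_app (HomotopyCategory.quasiIso B (ComplexShape.up ℤ))
    F.mapDerivedCategoryFactorsh.hom β X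

lemma isIso_homotopyAdj_counit_app [IsIso adj.counit] (X : HomotopyCategory B (ComplexShape.up ℤ)) :
    IsIso ((homotopyAdj adj).counit.app X) := by
  obtain ⟨K, rfl⟩ := HomotopyCategory.quotient_obj_surjective X
  haveI : IsIso ((DerivedAdj.mapHomologicalComplexAdj adj (ComplexShape.up ℤ)).counit.app K) := by
    haveI : ∀ n, IsIso (((DerivedAdj.mapHomologicalComplexAdj adj
        (ComplexShape.up ℤ)).counit.app K).f n) := fun n =>
      inferInstanceAs (IsIso (adj.counit.app (K.X n)))
    exact HomologicalComplex.Hom.isIso_of_components _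
  dsimp only [homotopyAdj]
  rw [Adjunction.localization_counit_app]
  infer_instance

include hKinj in
/-- if `G` is fully faithful, the counit of the derived adjunction is an isomorphism -/
lemma isIso_derivedAdjK_counit [IsIso adj.counit] : IsIso (derivedAdjK adj hKinj RG β).counit := by
  rw [NatTrans.isIso_iff_isIso_app]
  intro Y
  obtain ⟨X, hX, ⟨e⟩⟩ : ∃ (X : HomotopyCategory B (ComplexShape.up ℤ))
      (_ : (HomotopyCategory.quasiIso B (ComplexShape.up ℤ)).isLocal X),
      Nonempty (DerivedCategory.Qh.obj X ≅ Y) := by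
    obtain ⟨X', f, h1, h2⟩ := exists_local_resolution hKinj (DerivedCategory.Qh.objPreimage Y)
    haveI : IsIso (DerivedCategory.Qh.map f) :=
      Localization.inverts DerivedCategory.Qh (HomotopyCategory.quasiIso B (ComplexShape.up ℤ)) f h2
    exact ⟨X', h1, ⟨(asIso (DerivedCategory.Qh.map f)).symm ≪≫
      DerivedCategory.Qh.objObjPreimageIso Y⟩⟩
  rw [← NatTrans.isIso_app_iff_of_iso _ e]
  haveI := isIso_app_of_isLocal hKinj RG β X hX
  haveI := isIso_homotopyAdj_counit_app adj X
  have h := derivedAdjK_counit_fac adj hKinj RG β X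
  have h2 : IsIso (F.mapDerivedCategory.map (β.app X) ≫
      (derivedAdjK adj hKinj RG β).counit.app (DerivedCategory.Qh.obj X)) := by
    rw [h]
    infer_instance
  exact IsIso.of_isIso_comp_left (F.mapDerivedCategory.map (β.app X)) _

include hKinj adj in
/-- the version for right derived functors defined from cochain complexes -/
theorem nonempty_adj_of_isRightDerivedFunctor_Q (RG' : DerivedCategory B ⥤ DerivedCategory A)
    (α : G.mapHomologicalComplex (ComplexShape.up ℤ) ⋙ DerivedCategory.Q ⟶
      DerivedCategory.Q ⋙ RG')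
    [RG'.IsRightDerivedFunctor α (HomologicalComplex.quasiIso B (ComplexShape.up ℤ))] :
    Nonempty (F.mapDerivedCategory ⊣ RG') := by
  haveI := LocalRes.hasRightDerivedFunctor _ (exists_local_resolution hKinj)
    (G.mapHomotopyCategory (ComplexShape.up ℤ) ⋙ DerivedCategory.Qh (C := A))
  let RGh := (G.mapHomotopyCategory (ComplexShape.up ℤ) ⋙
    DerivedCategory.Qh (C := A)).totalRightDerived DerivedCategory.Qh
      (HomotopyCategory.quasiIso B (ComplexShape.up ℤ))
  let βh := (G.mapHomotopyCategory (ComplexShape.up ℤ) ⋙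
    DerivedCategory.Qh (C := A)).totalRightDerivedUnit DerivedCategory.Qh
      (HomotopyCategory.quasiIso B (ComplexShape.up ℤ))
  exact nonempty_adjunction_of_isRightDerivedFunctor
    (DerivedAdj.mapHomologicalComplexAdj adj (ComplexShape.up ℤ))
    (HomologicalComplex.quasiIso A (ComplexShape.up ℤ))
    (HomologicalComplex.quasiIso B (ComplexShape.up ℤ))
    F.mapDerivedCategoryFactors (derivedAdjK adj hKinj RGh βh) RG' α

end

end KInj

end Groth.Agent.Lib.Helper2
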