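import Groth.Agent.Lib.Helper2.LocalResolutions
import Groth.Agent.Lib.Helper2.KInjectiveDerived
import Mathlib.CategoryTheory.Triangulated.Adjunction
import Mathlib.CategoryTheory.Triangulated.Orthogonal
import Mathlib.CategoryTheory.Localization.Triangulated

set_option autoImplicit false

namespace Groth.Agent.Lib.Helper2.RightTri

open CategoryTheory Limits Pretriangulated

universe v₁ v₂ v₃ u₁ u₂ u₃

/-- Transport of `IsRightDerivedFunctor` along an equality of morphism properties. -/
theorem isRightDerivedFunctor_of_eq {C : Type u₁} {D : Type u₂} {T : Type u₃} [Category.{v₁} C]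
    [Category.{v₂} D] [Category.{v₃} T] {W W' : MorphismProperty C} (h : W = W') (L : C ⥤ D)
    [L.IsLocalization W] [L.IsLocalization W'] (F : C ⥤ T) (RF : D ⥤ T) (α : F ⟶ L ⋙ RF)
    [RF.IsRightDerivedFunctor α W] : RF.IsRightDerivedFunctor α W' := by
  subst h
  infer_instance

variable {C : Type u₁} {D : Type u₂} {T : Type u₃} [Category.{v₁} C] [Category.{v₂} D] [Category.{v₃} T]
  [HasZeroObject C] [HasZeroObject D] [HasZeroObject T]
  [Preadditive C] [Preadditive D] [Preadditive T]
  [HasShift C ℤ] [HasShift D ℤ] [HasShift T ℤ]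
  [∀ n : ℤ, (shiftFunctor C n).Additive] [∀ n : ℤ, (shiftFunctor D n).Additive]
  [∀ n : ℤ, (shiftFunctor T n).Additive]
  [Pretriangulated C] [Pretriangulated D] [Pretriangulated T] [IsTriangulated C]
  (P : ObjectProperty C) [P.IsTriangulated]
  (L : C ⥤ D) [L.CommShift ℤ] [L.IsTriangulated] [L.IsLocalization P.trW]
  (hres : ∀ X : C, ∃ (Y : C) (f : X ⟶ Y), P.rightOrthogonal Y ∧ P.trW f)

/-- The functor from the right orthogonal to the localization. -/
noncomputable abbrev E : P.rightOrthogonal.FullSubcategory ⥤ D := P.rightOrthogonal.ι ⋙ L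

theorem bijE (X Y : P.rightOrthogonal.FullSubcategory) :
    Function.Bijective ((E P L).map : (X ⟶ Y) → _) :=
  (ObjectProperty.rightOrthogonal.map_bijective_of_isTriangulated Y.property L X.obj).comp
      (P.rightOrthogonal.fullyFaithfulι.map_bijective X Y)

instance : (E P L).Full := ⟨(bijE P L _ _).surjective⟩
instance : (E P L).Faithful := ⟨fun h => (bijE P L _ _).injective h⟩

include hres in
theorem essSurjE : (E P L).EssSurj where
  mem_essImage Y := by
    haveI : L.EssSurj := Localization.essSurj L P.trW
    obtain ⟨Y', f, h1, h2⟩ := hres (L.objPreimage Y)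
    haveI : IsIso (L.map f) := Localization.inverts L P.trW f h2
    exact ⟨⟨Y', h1⟩, ⟨(asIso (L.map f)).symm ≪≫ L.objObjPreimageIso Y⟩⟩

include hres in
theorem isEquivalenceE : (E P L).IsEquivalence :=
  haveI := essSurjE P L hres
  { }

/-- The equivalence between the right orthogonal and the localization. -/
noncomputable def equiv : P.rightOrthogonal.FullSubcategory ≌ D :=
  haveI := isEquivalenceE P L hres
  (E P L).asEquivalence

noncomputable instance : (equiv P L hres).functor.CommShift ℤ :=
  inferInstanceAs ((E P L).CommShift ℤ)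

instance : (equiv P L hres).functor.IsTriangulated :=
  inferInstanceAs (E P L).IsTriangulated

noncomputable instance : (equiv P L hres).inverse.CommShift ℤ :=
  (equiv P L hres).commShiftInverse ℤ

instance : (equiv P L hres).CommShift ℤ := (equiv P L hres).commShift_of_functor ℤ

instance : (equiv P L hres).inverse.IsTriangulated :=
  (equiv P L hres).toAdjunction.isTriangulated_rightAdjoint

variable (F : C ⥤ T) [F.CommShift ℤ] [F.IsTriangulated]

/-- The manifestly triangulated model of the right derived functor. -/
noncomputable abbrev R' : D ⥤ T := (equiv P L hres).inverse ⋙ P.rightOrthogonal.ι ⋙ F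

example : (R' P L hres F).IsTriangulated := inferInstance

variable [P.trW.HasTwoOutOfThreeProperty]
  (RF : D ⥤ T) (α : F ⟶ L ⋙ RF) [RF.IsRightDerivedFunctor α P.trW]

include hres in
theorem isIso_α_app (X : C) (hX : P.rightOrthogonal X) : IsIso (α.app X) := by
  refine LocalRes.isIso_unit_app P.trW ?_ F L α X ?_
  · intro X
    obtain ⟨Y, f, h1, h2⟩ := hres X
    exact ⟨Y, f, by rwa [ObjectProperty.isLocal_trW], h2⟩
  · rwa [ObjectProperty.isLocal_trW]

/-- The comparison isomorphism. -/
noncomputable def isoR' : RF ≅ R' P L hres F :=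
  haveI : ∀ X : P.rightOrthogonal.FullSubcategory, IsIso ((Functor.whiskerLeft P.rightOrthogonal.ι α).app X) :=
    fun X => isIso_α_app P L hres F RF α X.obj X.property
  haveI : IsIso (Functor.whiskerLeft P.rightOrthogonal.ι α) := NatIso.isIso_of_isIso_app _
  (Functor.leftUnitor RF).symm ≪≫ Functor.isoWhiskerRight (equiv P L hres).counitIso.symm RF ≪≫
    Functor.associator _ _ _ ≪≫
    Functor.isoWhiskerLeft (equiv P L hres).inverse
      ((Functor.associator _ _ _) ≪≫ (asIso (Functor.whiskerLeft P.rightOrthogonal.ι α)).symm)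

include hres α in
/-- **A right derived functor of a triangulated functor, computed by resolutions in the right
orthogonal, is triangulated.** -/
theorem exists_isTriangulated : ∃ (_ : RF.CommShift ℤ), RF.IsTriangulated := by
  let e := isoR' P L hres F RF α
  letI : RF.CommShift ℤ := Functor.CommShift.ofIso e.symm ℤ
  haveI : NatTrans.CommShift e.symm.hom ℤ := Functor.CommShift.ofIso_compatibility e.symm ℤ
  exact ⟨inferInstance, Functor.isTriangulated_of_iso e.symm⟩

end Groth.Agent.Lib.Helper2.RightTri
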