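import Mathlib

/-!
# Morphisms in the derived category from a projective object placed in a single degree (helper2)
-/

set_option autoImplicit false
universe w v u
open CategoryTheory Limits HomologicalComplex

namespace Groth.Agent.Lib.Helper2.KInj

variable {A : Type u} [Category.{v} A] [Abelian A] [HasDerivedCategory.{w} A]

open DerivedCategory

lemma Q_map_surjective_of_isKProjective (K L : CochainComplex A ℤ) [K.IsKProjective]
    (g : Q.obj K ⟶ Q.obj L) : ∃ φ : K ⟶ L, Q.map φ = g := by
  obtain ⟨ψ, hψ⟩ := (CochainComplex.IsKProjective.Qh_map_bijective K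
    ((HomotopyCategory.quotient _ _).obj L)).surjective
    ((quotientCompQhIso A).hom.app K ≫ g ≫ (quotientCompQhIso A).inv.app L)
  obtain ⟨φ, rfl⟩ := (HomotopyCategory.quotient _ _).map_surjective ψ
  refine ⟨φ, ?_⟩
  have h1 := quotientCompQhIso_hom_naturality φ
  have h2 : (quotientCompQhIso A).hom.app K ≫ g =
      (quotientCompQhIso A).hom.app K ≫ Q.map φ := by
    rw [← h1, hψ]
    simp
  exact ((cancel_epi _).1 h2).symm

lemma homotopy_of_Q_map_eq_of_isKProjective (K L : CochainComplex A ℤ) [K.IsKProjective]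
    (φ₁ φ₂ : K ⟶ L) (h : Q.map φ₁ = Q.map φ₂) : Nonempty (Homotopy φ₁ φ₂) := by
  refine ⟨HomotopyCategory.homotopyOfEq _ _ ?_⟩
  apply (CochainComplex.IsKProjective.Qh_map_bijective K
    ((HomotopyCategory.quotient _ _).obj L)).injective
  rw [← cancel_mono ((quotientCompQhIso A).hom.app L), quotientCompQhIso_hom_naturality,
    quotientCompQhIso_hom_naturality, h]

variable (P : A) [Projective P] (j : ℤ)

instance isKProjective_single :
    CochainComplex.IsKProjective ((single A (ComplexShape.up ℤ) j).obj P) := by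
  haveI : ∀ n : ℤ, Projective (((single A (ComplexShape.up ℤ) j).obj P).X n) := by
    intro n
    by_cases hn : n = j
    · subst hn
      exact Projective.of_iso (singleObjXSelf (ComplexShape.up ℤ) n P).symm inferInstance
    · exact (isZero_single_obj_X (ComplexShape.up ℤ) j P n hn).projective
  exact CochainComplex.isKProjective_of_projective _ j

variable {P j}

/-- every morphism from `P[-j]` in the derived category is given by a cocycle -/
lemma exists_cocycle_of_single (L : CochainComplex A ℤ)
    (φ : Q.obj ((single A (ComplexShape.up ℤ) j).obj P) ⟶ Q.obj L) :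
    ∃ (z : P ⟶ L.X j) (hz : ∀ k, (ComplexShape.up ℤ).Rel j k → z ≫ L.d j k = 0),
      φ = Q.map (mkHomFromSingle z hz) := by
  obtain ⟨ψ, rfl⟩ := Q_map_surjective_of_isKProjective _ _ φ
  have hz : ∀ k, (ComplexShape.up ℤ).Rel j k →
      ((singleObjXSelf (ComplexShape.up ℤ) j P).inv ≫ ψ.f j) ≫ L.d j k = 0 := by
    intro k _
    rw [Category.assoc, ψ.comm, single_obj_d, zero_comp, comp_zero]
  refine ⟨(singleObjXSelf (ComplexShape.up ℤ) j P).inv ≫ ψ.f j, hz, ?_⟩
  congr 1
  apply from_single_hom_ext
  rw [mkHomFromSingle_f, Iso.hom_inv_id_assoc]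

/-- a cocycle giving the zero morphism in the derived category is a coboundary -/
lemma exists_boundary_of_single (L : CochainComplex A ℤ) (z : P ⟶ L.X j)
    (hz : ∀ k, (ComplexShape.up ℤ).Rel j k → z ≫ L.d j k = 0)
    (h0 : Q.map (mkHomFromSingle z hz) = 0) (i : ℤ) (hi : i + 1 = j) :
    ∃ y : P ⟶ L.X i, y ≫ L.d i j = z := by
  obtain ⟨h⟩ := homotopy_of_Q_map_eq_of_isKProjective _ _ (mkHomFromSingle z hz) 0
    (by rw [h0, Functor.map_zero])
  refine ⟨(singleObjXSelf (ComplexShape.up ℤ) j P).inv ≫ h.hom j i, ?_⟩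
  have h1 := h.comm j
  rw [mkHomFromSingle_f, zero_f, add_zero,
    prevD_eq _ (show (ComplexShape.up ℤ).Rel i j from hi),
    dNext_eq _ (show (ComplexShape.up ℤ).Rel j (j + 1) from rfl), single_obj_d, zero_comp,
    zero_add] at h1
  rw [Category.assoc, ← h1, Iso.inv_hom_id_assoc]

end Groth.Agent.Lib.Helper2.KInj
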