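import Mathlib
import Groth.Agent.Lib.Helper2.KInj.FilteredQuasiIso

/-!
# Quasi-isomorphisms are stable under exact limits (helper2)
-/

set_option autoImplicit false
universe w w' v u
open CategoryTheory Limits HomologicalComplex

namespace Groth.Agent.Lib.Helper2.KInj

variable {A : Type u} [Category.{v} A] [Abelian A] {J : Type w} [Category.{w'} J]
  {ι : Type*} {c : ComplexShape ι}

variable [HasLimitsOfShape J A]

/-- the standard limit cone of a functor to complexes -/
@[simps]
noncomputable def limCone (D : J ⥤ HomologicalComplex A c) : Cone D where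
  pt := (lim.mapHomologicalComplex c).obj (toCx D)
  π :=
    { app := fun t =>
        { f := fun i => limit.π (D ⋙ eval A c i) t
          comm' := fun i j _ => by
            change limit.π _ t ≫ _ = limMap ((toCx D).d i j) ≫ limit.π _ t
            exact (limMap_π ((toCx D).d i j) t).symm }
      naturality := fun t t' g => by
        ext i
        dsimp
        rw [Category.id_comp]
        exact (limit.w (D ⋙ eval A c i) g).symm }

/-- the standard cone is a limit cone -/
noncomputable def isLimitLimCone (D : J ⥤ HomologicalComplex A c) :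
    IsLimit (limCone D) :=
  isLimitOfEval _ _ (fun i =>
    IsLimit.ofIsoLimit (limit.isLimit (D ⋙ eval A c i))
      (Cone.ext (Iso.refl _) (fun t => (Category.id_comp _).symm)))

attribute [local instance] preservesBinaryBiproducts_of_preservesBinaryProducts in
instance additive_lim : (lim : (J ⥤ A) ⥤ A).Additive :=
  Functor.additive_of_preservesBinaryBiproducts _

variable [HasExactLimitsOfShape J A]

lemma quasiIso_limMap {D₁ D₂ : J ⥤ HomologicalComplex A c} (f : D₁ ⟶ D₂)
    (hf : ∀ t, QuasiIso (f.app t)) {c₁ : Cone D₁} {c₂ : Cone D₂} (hc₁ : IsLimit c₁)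
    (hc₂ : IsLimit c₂) (φ : c₁.pt ⟶ c₂.pt)
    (hφ : ∀ t, φ ≫ c₂.π.app t = c₁.π.app t ≫ f.app t) : QuasiIso φ := by
  haveI := quasiIso_toCxMap f hf
  have h1 : QuasiIso ((lim.mapHomologicalComplex c).map (toCxMap f)) :=
    quasiIso_map_of_preservesHomology (toCxMap f) lim
  let M := (lim.mapHomologicalComplex c).map (toCxMap f)
  let e₁ : c₁.pt ≅ (lim.mapHomologicalComplex c).obj (toCx D₁) :=
    hc₁.conePointUniqueUpToIso (isLimitLimCone D₁)
  let e₂ : c₂.pt ≅ (lim.mapHomologicalComplex c).obj (toCx D₂) :=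
    hc₂.conePointUniqueUpToIso (isLimitLimCone D₂)
  let p₁ : ∀ t, (lim.mapHomologicalComplex c).obj (toCx D₁) ⟶ D₁.obj t :=
    fun t => (limCone D₁).π.app t
  let p₂ : ∀ t, (lim.mapHomologicalComplex c).obj (toCx D₂) ⟶ D₂.obj t :=
    fun t => (limCone D₂).π.app t
  have h2 : e₁.hom ≫ M = φ ≫ e₂.hom := by
    apply (isLimitLimCone D₂).hom_ext
    intro t
    have h3 : M ≫ p₂ t = p₁ t ≫ f.app t := by
      ext i
      dsimp [p₁, p₂, M]
      exact limMap_π _ _
    have h4 : e₁.hom ≫ p₁ t = c₁.π.app t :=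
      IsLimit.conePointUniqueUpToIso_hom_comp _ _ _
    have h5 : e₂.hom ≫ p₂ t = c₂.π.app t :=
      IsLimit.conePointUniqueUpToIso_hom_comp _ _ _
    calc (e₁.hom ≫ M) ≫ p₂ t = e₁.hom ≫ M ≫ p₂ t := Category.assoc _ _ _
      _ = e₁.hom ≫ p₁ t ≫ f.app t := by rw [h3]
      _ = (e₁.hom ≫ p₁ t) ≫ f.app t := (Category.assoc _ _ _).symm
      _ = c₁.π.app t ≫ f.app t := by rw [h4]
      _ = φ ≫ c₂.π.app t := (hφ t).symm
      _ = φ ≫ e₂.hom ≫ p₂ t := by rw [h5]
      _ = (φ ≫ e₂.hom) ≫ p₂ t := (Category.assoc _ _ _).symm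
  haveI : QuasiIso M := h1
  haveI : QuasiIso (φ ≫ e₂.hom) := by rw [← h2]; infer_instance
  exact quasiIso_of_comp_right φ e₂.hom

/-- Products of quasi-isomorphisms are quasi-isomorphisms when products are exact. -/
lemma quasiIso_of_fans {T : Type w} [HasLimitsOfShape (Discrete T) A]
    [HasExactLimitsOfShape (Discrete T) A] {M M' : T → HomologicalComplex A c}
    (s : ∀ t, M t ⟶ M' t) (hs : ∀ t, QuasiIso (s t)) {c₁ : Fan M} {c₂ : Fan M'}
    (hc₁ : IsLimit c₁) (hc₂ : IsLimit c₂) (φ : c₁.pt ⟶ c₂.pt)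
    (hφ : ∀ t, φ ≫ c₂.proj t = c₁.proj t ≫ s t) : QuasiIso φ :=
  quasiIso_limMap (J := Discrete T)
    (Discrete.natTrans (F := Discrete.functor M) (G := Discrete.functor M') (fun t => s t.as))
    (fun t => hs t.as) hc₁ hc₂ φ (fun t => hφ t.as)

end Groth.Agent.Lib.Helper2.KInj
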