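import Mathlib
import Groth.Agent.Lib.Helper2.KInj.LimQuasiIso
import Groth.Agent.Lib.Helper2.KInj.DProd

/-!
# `Q` preserves products of complexes when products are exact (helper2)
-/

set_option autoImplicit false
universe w v u
open CategoryTheory Limits HomologicalComplex

namespace Groth.Agent.Lib.Helper2.KInj

variable {B : Type u} [Category.{v} B] [Abelian B] [HasDerivedCategory.{w} B]

open DerivedCategory

local notation "cc" => ComplexShape.up ℤ

/-- If `Q.map φ = 0` then `φ` becomes null-homotopic after composing with a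
quasi-isomorphism. -/
lemma exists_homotopy_zero_of_Q_map_eq_zero {X M : CochainComplex B ℤ} (φ : X ⟶ M)
    (h : Q.map φ = 0) :
    ∃ (M' : CochainComplex B ℤ) (s : M ⟶ M') (_ : QuasiIso s), Nonempty (Homotopy (φ ≫ s) 0) := by
  have h' : Qh.map ((HomotopyCategory.quotient B cc).map φ) =
      Qh.map (0 : (HomotopyCategory.quotient B cc).obj X ⟶ (HomotopyCategory.quotient B cc).obj M) := by
    rw [Functor.map_zero]
    exact h
  obtain ⟨Z, s, hs, eq⟩ :=
    (MorphismProperty.map_eq_iff_postcomp Qh (HomotopyCategory.quasiIso B cc) _ _).1 h'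
  obtain ⟨M', rfl⟩ := HomotopyCategory.quotient_obj_surjective Z
  obtain ⟨s', rfl⟩ := (HomotopyCategory.quotient _ _).map_surjective s
  refine ⟨M', s', ?_, ⟨HomotopyCategory.homotopyOfEq _ _ ?_⟩⟩
  · exact (HomologicalComplex.mem_quasiIso_iff s').1
      ((HomotopyCategory.quotient_map_mem_quasiIso_iff s').1 hs)
  · rw [Functor.map_comp, eq, zero_comp, Functor.map_zero]

variable [HasLimitsOfShape (Discrete ℕ) B] [HasExactLimitsOfShape (Discrete ℕ) B]

variable (M : ℕ → CochainComplex B ℤ) (c : Fan M) (hc : IsLimit c)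

include hc in
lemma exists_lift_Q (X : CochainComplex B ℤ) (g : ∀ n, Q.obj X ⟶ Q.obj (M n)) :
    ∃ G : Q.obj X ⟶ Q.obj c.pt, ∀ n, G ≫ Q.map (c.proj n) = g n := by
  have hfac := fun n => left_fac (g n)
  choose M' f s hs hg using hfac
  have hqs : ∀ n, QuasiIso (s n) := fun n => (isIso_Q_map_iff_quasiIso B (s n)).1 (hs n)
  let σ : c.pt ⟶ ∏ᶜ M' := Pi.lift (fun n => c.proj n ≫ s n)
  have hσ : ∀ n, σ ≫ Pi.π M' n = c.proj n ≫ s n := fun n => Pi.lift_π _ n
  haveI : QuasiIso σ := quasiIso_of_fans s hqs hc (productIsProduct M') σ hσ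
  haveI : IsIso (Q.map σ) := (isIso_Q_map_iff_quasiIso B σ).2 inferInstance
  refine ⟨Q.map (Pi.lift f) ≫ inv (Q.map σ), fun n => ?_⟩
  haveI := hs n
  have e1 : Q.map (c.proj n) = Q.map σ ≫ Q.map (Pi.π M' n) ≫ inv (Q.map (s n)) := by
    rw [← Category.assoc, ← Functor.map_comp, hσ, Functor.map_comp, Category.assoc,
      IsIso.hom_inv_id, Category.comp_id]
  rw [e1, Category.assoc, IsIso.inv_hom_id_assoc, ← Category.assoc, ← Functor.map_comp,
    Pi.lift_π, hg n]

include hc in
lemma eq_zero_of_Q (X : CochainComplex B ℤ) (h : Q.obj X ⟶ Q.obj c.pt)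
    (hh : ∀ n, h ≫ Q.map (c.proj n) = 0) : h = 0 := by
  obtain ⟨X', t, ht, f, rfl⟩ := right_fac h
  have h0 : ∀ n, Q.map (f ≫ c.proj n) = 0 := fun n => by
    have := hh n
    rw [Category.assoc, ← Functor.map_comp] at this
    rw [← cancel_epi (inv (Q.map t)), this, comp_zero]
  have hex := fun n => exists_homotopy_zero_of_Q_map_eq_zero _ (h0 n)
  choose M' s hs hH using hex
  let σ : c.pt ⟶ ∏ᶜ M' := Pi.lift (fun n => c.proj n ≫ s n)
  have hσ : ∀ n, σ ≫ Pi.π M' n = c.proj n ≫ s n := fun n => Pi.lift_π _ n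
  haveI : QuasiIso σ := quasiIso_of_fans s hs hc (productIsProduct M') σ hσ
  haveI : IsIso (Q.map σ) := (isIso_Q_map_iff_quasiIso B σ).2 inferInstance
  have hH' : Homotopy (f ≫ σ) 0 := DProd.homotopyProd M' (f ≫ σ) 0 (fun n =>
    (Homotopy.ofEq (by rw [Category.assoc, hσ, Category.assoc])).trans
      ((hH n).some.trans (Homotopy.ofEq (zero_comp).symm)))
  have h1 : Q.map (f ≫ σ) = 0 := by
    rw [DerivedCategory.Q_map_eq_of_homotopy B hH', Functor.map_zero]
  have h2 : Q.map f = 0 := by
    rw [Functor.map_comp] at h1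
    rw [← cancel_mono (Q.map σ), h1, zero_comp]
  rw [h2, comp_zero]

/-- **`Q` preserves countable products when countable products are exact.** -/
noncomputable def isLimitQFan :
    IsLimit (Fan.mk (Q.obj c.pt) (fun n => Q.map (c.proj n))) :=
  Fan.IsLimit.mk _
    (fun s => (Q.objObjPreimageIso s.pt).inv ≫
      (exists_lift_Q M c hc (Q.objPreimage s.pt)
        (fun n => (Q.objObjPreimageIso s.pt).hom ≫ s.proj n)).choose)
    (fun s n => by
      have := (exists_lift_Q M c hc (Q.objPreimage s.pt)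
        (fun n => (Q.objObjPreimageIso s.pt).hom ≫ s.proj n)).choose_spec n
      change (_ ≫ _) ≫ Q.map (c.proj n) = s.proj n
      rw [Category.assoc, this, Iso.inv_hom_id_assoc])
    (fun s m hm => by
      have hsp := (exists_lift_Q M c hc (Q.objPreimage s.pt)
        (fun n => (Q.objObjPreimageIso s.pt).hom ≫ s.proj n)).choose_spec
      rw [← cancel_epi (Q.objObjPreimageIso s.pt).hom, Iso.hom_inv_id_assoc, ← sub_eq_zero]
      apply eq_zero_of_Q M c hc
      intro n
      rw [Preadditive.sub_comp, hsp n, Category.assoc]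
      have := hm n
      change m ≫ Q.map (c.proj n) = s.proj n at this
      rw [this, sub_self])

end Groth.Agent.Lib.Helper2.KInj
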