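import Mathlib
import Groth.Agent.Lib.Helper2.KInj.QProdExact
import Groth.Agent.Lib.Helper2.KInjectiveDerived
import Groth.Agent.Lib.Helper2.KInj.RightTri

/-!
# Right derived functors commute with countable products (helper2)
-/

set_option autoImplicit false
universe w w' v v' u u'
open CategoryTheory Limits HomologicalComplex

namespace Groth.Agent.Lib.Helper2.KInj

local notation "cc" => ComplexShape.up ℤ

section General

variable {C : Type*} [Category C] {J : Type*} {X Y : J → C} {p q : C}

/-- transport of a limit fan along isomorphisms -/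
def isLimitFanOfIso (πp : ∀ j, p ⟶ X j) (πq : ∀ j, q ⟶ Y j) (h : IsLimit (Fan.mk p πp))
    (e : p ≅ q) (ε : ∀ j, X j ≅ Y j) (w : ∀ j, e.hom ≫ πq j = πp j ≫ (ε j).hom) :
    IsLimit (Fan.mk q πq) :=
  Fan.IsLimit.mk _ (fun s => Fan.IsLimit.lift h (fun j => s.proj j ≫ (ε j).inv) ≫ e.hom)
    (fun s j => by
      change (_ ≫ e.hom) ≫ πq j = s.proj j
      rw [Category.assoc, w, ← Category.assoc]
      have := Fan.IsLimit.fac h (fun j => s.proj j ≫ (ε j).inv) j
      change Fan.IsLimit.lift h (fun j => s.proj j ≫ (ε j).inv) ≫ πp j = _ at this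
      rw [this, Category.assoc, Iso.inv_hom_id, Category.comp_id])
    (fun s m hm => by
      rw [← cancel_mono e.inv, Category.assoc, Iso.hom_inv_id, Category.comp_id]
      apply Fan.IsLimit.hom_ext h
      intro j
      have h1 := Fan.IsLimit.fac h (fun j => s.proj j ≫ (ε j).inv) j
      rw [h1]
      change (m ≫ e.inv) ≫ πp j = _
      have h2 : πp j = e.hom ≫ πq j ≫ (ε j).inv := by
        rw [← Category.assoc, w, Category.assoc, Iso.hom_inv_id, Category.comp_id]
      have h3 : m ≫ πq j = s.proj j := hm j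
      rw [h2, Category.assoc, Iso.inv_hom_id_assoc, ← Category.assoc, h3])

end General

section MapHC

variable {A : Type u} [Category.{v} A] [Abelian A] {B : Type u'} [Category.{v'} B] [Abelian B]
  (F : A ⥤ B) [F.Additive] {J : Type*} [Category J] {ι : Type*} (c : ComplexShape ι)
  [HasLimitsOfShape J A] [PreservesLimitsOfShape J F]

instance preservesLimitsOfShape_mapHomologicalComplex :
    PreservesLimitsOfShape J (F.mapHomologicalComplex c) :=
  ⟨fun {G} => ⟨fun {s} hs => ⟨isLimitOfEval _ _ (fun i => by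
    exact isLimitOfPreserves (eval A c i ⋙ F) hs)⟩⟩⟩

end MapHC

variable {A : Type u} [Category.{v} A] [Abelian A] [IsGrothendieckAbelian.{v} A]
  [HasDerivedCategory.{w} A]
  {B : Type u'} [Category.{v'} B] [Abelian B] [HasDerivedCategory.{w'} B]
  [HasLimitsOfShape (Discrete ℕ) B] [HasExactLimitsOfShape (Discrete ℕ) B]
  (F : A ⥤ B) [F.Additive] [PreservesLimitsOfShape (Discrete ℕ) F]
  (RF : DerivedCategory A ⥤ DerivedCategory B)
  (α : F.mapHomotopyCategory cc ⋙ DerivedCategory.Qh ⟶ DerivedCategory.Qh ⋙ RF)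
  [RF.IsRightDerivedFunctor α (HomotopyCategory.quasiIso A cc)]

open DerivedCategory

lemma hKinjG (K : CochainComplex A ℤ) :
    ∃ (I : CochainComplex A ℤ) (f : K ⟶ I), I.IsKInjective ∧ QuasiIso f := by
  obtain ⟨I, f, h1, h2, _, _⟩ := exists_kInjective_resolution K
  exact ⟨I, f, h1, h2⟩

include α in
lemma isIso_α_app_kinj (I : CochainComplex A ℤ) [I.IsKInjective] :
    IsIso (α.app ((HomotopyCategory.quotient _ _).obj I)) :=
  LocalRes.isIso_unit_app _ (exists_local_resolution hKinjG) _ DerivedCategory.Qh α _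
    (isLocal_quotient_obj_of_isKInjective I inferInstance)

include F α

/-- `Q(F I) ≅ RF(Q I)` for K-injective `I`. -/
noncomputable def aIso (I : CochainComplex A ℤ) [I.IsKInjective] :
    Q.obj ((F.mapHomologicalComplex cc).obj I) ≅ RF.obj (Q.obj I) :=
  haveI := isIso_α_app_kinj F RF α I
  let e : (F.mapHomotopyCategory cc ⋙ DerivedCategory.Qh).obj
      ((HomotopyCategory.quotient _ _).obj I) ≅
      (DerivedCategory.Qh ⋙ RF).obj ((HomotopyCategory.quotient _ _).obj I) :=
    asIso (α.app ((HomotopyCategory.quotient _ _).obj I))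
  e

lemma aIso_naturality {I I' : CochainComplex A ℤ} [I.IsKInjective] [I'.IsKInjective]
    (φ : I ⟶ I') :
    Q.map ((F.mapHomologicalComplex cc).map φ) ≫ (aIso F RF α I').hom =
      (aIso F RF α I).hom ≫ RF.map (Q.map φ) :=
  α.naturality ((HomotopyCategory.quotient _ _).map φ)

/-- `RF` preserves products of images of K-injective complexes. -/
theorem preservesLimit_Q_kinj (I : ℕ → CochainComplex A ℤ) [∀ n, (I n).IsKInjective] :
    PreservesLimit (Discrete.functor (fun n => Q.obj (I n))) RF := by
  have hP := DProd.isLimitQProd I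
  refine preservesLimit_of_preserves_limit_cone hP
    ((isLimitMapConeFanMkEquiv RF _ _).symm ?_)
  have hcF : IsLimit (Fan.mk ((F.mapHomologicalComplex cc).obj (∏ᶜ I))
      (fun n => (F.mapHomologicalComplex cc).map (Pi.π I n))) :=
    isLimitFanMkObjOfIsLimit (F.mapHomologicalComplex cc) _ _ (productIsProduct I)
  have hB := isLimitQFan (fun n => (F.mapHomologicalComplex cc).obj (I n)) _ hcF
  exact isLimitFanOfIso _ _ hB (aIso F RF α (∏ᶜ I)) (fun n => aIso F RF α (I n))
    (fun n => (aIso_naturality F RF α (Pi.π I n)).symm)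

/-- **`RF` preserves countable products.** -/
theorem preservesLimit_totalRightDerived (K : ℕ → DerivedCategory A) :
    PreservesLimit (Discrete.functor K) RF := by
  have h : ∀ n, ∃ (L : CochainComplex A ℤ) (_ : L.IsKInjective), Nonempty (K n ≅ Q.obj L) := by
    intro n
    obtain ⟨L, h1, -, h2⟩ := DProd.exists_kInjective (K n)
    exact ⟨L, h1, h2⟩
  choose I hI e using h
  haveI : ∀ n, (I n).IsKInjective := hI
  haveI := preservesLimit_Q_kinj F RF α I
  exact preservesLimit_of_iso_diagram RF
    (Discrete.natIso (F := Discrete.functor (fun n => Q.obj (I n))) (G := Discrete.functor K)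
      (fun n => (e n.as).some.symm))

end Groth.Agent.Lib.Helper2.KInj
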