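import Mathlib
import Groth.Agent.Lib.Helper2.KInj.DProd
import Groth.Agent.Lib.Helper2.KInjQ

/-!
# The derived category of a Grothendieck abelian category is locally small (helper2)
-/

set_option autoImplicit false
universe w v u
open CategoryTheory Limits

namespace Groth.Agent.Lib.Helper2.KInj

variable (A : Type u) [Category.{v} A] [Abelian A] [IsGrothendieckAbelian.{v} A]

open DerivedCategory in
/-- the derived category of a Grothendieck abelian category is locally small -/
lemma locallySmall_derivedCategory [HasDerivedCategory.{w} A] :
    LocallySmall.{v} (DerivedCategory A) where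
  hom_small X Y := by
    obtain ⟨I, hI, -, ⟨e⟩⟩ := DProd.exists_kInjective Y
    let K := Q.objPreimage X
    let e' : Q.obj K ≅ X := Q.objObjPreimageIso X
    have hs : Function.Surjective (fun φ : K ⟶ I => e'.inv ≫ Q.map φ ≫ e.inv) := by
      intro g
      obtain ⟨φ, hφ⟩ := KInjQ.Q_map_surjective_of_isKInjective K I (e'.hom ≫ g ≫ e.hom)
      exact ⟨φ, by simp [hφ]⟩
    exact small_of_surjective hs

/-- a model of the derived category with small morphism types -/
@[instance_reducible]
noncomputable def smallHasDerivedCategory : HasDerivedCategory.{v} A :=
  letI := HasDerivedCategory.standard A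
  haveI := locallySmall_derivedCategory A
  { D := ShrinkHoms (DerivedCategory A)
    hD := inferInstance
    L := DerivedCategory.Q ⋙ (ShrinkHoms.equivalence (DerivedCategory A)).functor
    hL := Functor.IsLocalization.of_equivalence_target DerivedCategory.Q _ _
      (ShrinkHoms.equivalence (DerivedCategory A)) (Iso.refl _) }

end Groth.Agent.Lib.Helper2.KInj
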