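import Mathlib
import Groth.Agent.Lib.Helper2.KInj.Main

/-!
# Functorial K-injective resolutions (helper2)
-/

set_option autoImplicit false
universe v u
open CategoryTheory Limits HomologicalComplex MorphismProperty ZeroObject

namespace Groth.Agent.Lib.Helper2.KInj

variable {A : Type u} [Category.{v} A] [Abelian A] [IsGrothendieckAbelian.{v} A]

variable (A) in
/-- the functor `M ↦ (M ⟶ 0)` -/
noncomputable def toArrowZero : CochainComplex A ℤ ⥤ Arrow (CochainComplex A ℤ) where
  obj M := Arrow.mk (0 : M ⟶ 0)
  map f := Arrow.homMk f (𝟙 0) (by simp)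

variable (A) in
/-- the functorial factorization data of the small object argument -/
noncomputable def facData :
    FunctorialFactorizationData (genS A).rlp.llp (genS A).rlp :=
  functorialFactorizationData _ _

variable (A) in
/-- the functorial K-injective resolution -/
noncomputable def kInjFunctor : CochainComplex A ℤ ⥤ CochainComplex A ℤ :=
  toArrowZero A ⋙ (facData A).Z

variable (A) in
/-- the natural map to the functorial K-injective resolution -/
noncomputable def kInjι : 𝟭 (CochainComplex A ℤ) ⟶ kInjFunctor A where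
  app M := (facData A).i.app ((toArrowZero A).obj M)
  naturality _ _ f := (facData A).i.naturality ((toArrowZero A).map f)

lemma monoQis_kInjι (M : CochainComplex A ℤ) : monoQis A ((kInjι A).app M) :=
  genS_rlp_llp_le _ ((facData A).hi _)

instance (M : CochainComplex A ℤ) : Mono ((kInjι A).app M) :=
  ((monoQis_iff _).1 (monoQis_kInjι M)).1

instance (M : CochainComplex A ℤ) : QuasiIso ((kInjι A).app M) :=
  ((monoQis_iff _).1 (monoQis_kInjι M)).2

lemma kInjFunctor_lifting (M : CochainComplex A ℤ) {B C : CochainComplex A ℤ} (i : B ⟶ C)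
    (hi : Mono i) (hq : QuasiIso i) (g : B ⟶ (kInjFunctor A).obj M) :
    ∃ g' : C ⟶ (kInjFunctor A).obj M, i ≫ g' = g := by
  have hp := genS_rlp_le _ ((facData A).hp ((toArrowZero A).obj M))
  have sq : CommSq g i ((facData A).p.app ((toArrowZero A).obj M)) 0 :=
    ⟨(isZero_zero _).eq_of_tgt _ _⟩
  have h := hp i ((monoQis_iff _).2 ⟨hi, hq⟩)
  haveI : sq.HasLift := h.sq_hasLift sq
  exact ⟨sq.lift, sq.fac_left⟩

instance (M : CochainComplex A ℤ) : ((kInjFunctor A).obj M).IsKInjective :=
  isKInjective_of_lifting (kInjFunctor_lifting M)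

instance (M : CochainComplex A ℤ) (n : ℤ) : Injective (((kInjFunctor A).obj M).X n) :=
  injective_X_of_lifting (kInjFunctor_lifting M) n

end Groth.Agent.Lib.Helper2.KInj
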