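import Mathlib
import Groth.Agent.Lib.Helper2.KInj.Lifting

/-!
# K-injective complexes with injective terms have the lifting property (helper2)
-/

set_option autoImplicit false
universe v u
open CategoryTheory Limits HomologicalComplex CochainComplex CochainComplex.HomComplex

namespace Groth.Agent.Lib.Helper2.KInj

variable {A : Type u} [Category.{v} A] [Abelian A]

lemma exists_lift_of_isKInjective (I : CochainComplex A ℤ) [I.IsKInjective]
    [∀ n, Injective (I.X n)] (S : ShortComplex (CochainComplex A ℤ)) (hS : S.ShortExact)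
    (hC : S.X₃.Acyclic) (φ : S.X₁ ⟶ I) : ∃ ψ : S.X₂ ⟶ I, S.f ≫ ψ = φ := by
  have hSn : ∀ n : ℤ, (S.map (eval A (ComplexShape.up ℤ) n)).ShortExact := fun n =>
    hS.map_of_exact _
  haveI : ∀ n : ℤ, Mono (S.f.f n) := fun n => (hSn n).mono_f
  haveI : ∀ n : ℤ, Epi (S.g.f n) := fun n => (hSn n).epi_g
  -- degreewise extension
  let ψ₀ : Cochain S.X₂ I 0 := Cochain.ofHoms (fun n => Injective.factorThru (φ.f n) (S.f.f n))
  have hψ₀ : (Cochain.ofHom S.f).comp ψ₀ (zero_add 0) = Cochain.ofHom φ := by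
    ext p
    simp [ψ₀]
  let z : Cochain S.X₂ I 1 := δ 0 1 ψ₀
  have hz : (Cochain.ofHom S.f).comp z (zero_add 1) = 0 := by
    dsimp only [z]
    rw [← δ_ofHom_comp, hψ₀, δ_ofHom]
  -- factor through the cokernel
  have hzv : ∀ p q (hpq : p + 1 = q), S.f.f p ≫ z.v p q hpq = 0 := by
    intro p q hpq
    have := Cochain.congr_v hz p q (by omega)
    simpa using this
  haveI : ∀ n : ℤ, Epi (S.map (eval A (ComplexShape.up ℤ) n)).g := fun n => (hSn n).epi_g
  let γ : Cochain S.X₃ I 1 := Cochain.mk (fun p q hpq =>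
    (hSn p).exact.desc (z.v p q hpq) (hzv p q hpq))
  have hγ : (Cochain.ofHom S.g).comp γ (zero_add 1) = z := by
    ext p q hpq
    simp only [Cochain.zero_cochain_comp_v, Cochain.ofHom_v, γ, Cochain.mk_v]
    exact (hSn p).exact.g_desc _ _
  have hγ' : δ 1 2 γ = 0 := by
    have h1 : (Cochain.ofHom S.g).comp (δ 1 2 γ) (zero_add 2) = 0 := by
      rw [← δ_ofHom_comp, hγ]
      exact δ_δ 0 1 2 ψ₀
    ext p q hpq
    have := Cochain.congr_v h1 p q hpq
    simp only [Cochain.zero_cochain_comp_v, Cochain.ofHom_v, Cochain.zero_v] at this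
    rw [← cancel_epi (S.g.f p), this, Cochain.zero_v, comp_zero]
  obtain ⟨α, hα⟩ := IsKInjective.eq_δ_of_cocycle (Cocycle.mk γ 2 (by omega) hγ') hC 0 (by omega)
  change δ 0 1 α = γ at hα
  let ψ' : Cochain S.X₂ I 0 := ψ₀ - (Cochain.ofHom S.g).comp α (zero_add 0)
  have hψ' : δ 0 1 ψ' = 0 := by
    dsimp only [ψ']
    rw [δ_sub, δ_ofHom_comp, hα, hγ, sub_self]
  refine ⟨Cocycle.homOf (Cocycle.mk ψ' 1 (by omega) hψ'), ?_⟩
  apply (Cocycle.equivHom _ _).injective
  ext p
  have h1 := Cochain.congr_v hψ₀ p p (by omega)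
  have h2 : S.f.f p ≫ S.g.f p = 0 := by
    rw [← HomologicalComplex.comp_f, S.zero, HomologicalComplex.zero_f]
  simp only [Cochain.zero_cochain_comp_v, Cochain.ofHom_v] at h1
  simp [ψ', h1, reassoc_of% h2]

end Groth.Agent.Lib.Helper2.KInj
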