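import Groth.Prelude
import Groth.Agent.Lib.Helper2.KInj.RightTri

set_option autoImplicit false

namespace Groth.Agent.Lib.Helper2.RightTri

open CategoryTheory Limits Pretriangulated

universe v₁ v₂ u₁ u₂

variable {T : Type u₁} {T' : Type u₂} [Category.{v₁} T] [Category.{v₂} T']
  [HasZeroObject T] [HasZeroObject T'] [Preadditive T] [Preadditive T']
  [HasShift T ℤ] [HasShift T' ℤ]
  [∀ n : ℤ, (shiftFunctor T n).Additive] [∀ n : ℤ, (shiftFunctor T' n).Additive]
  [Pretriangulated T] [Pretriangulated T']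

/-- A triangulated functor preserving the relevant product preserves derived limits. -/
theorem isRlim_map (G : T ⥤ T') [G.CommShift ℤ] [G.IsTriangulated]
    (K : ℕ → T) (t : ∀ n, K (n + 1) ⟶ K n) [HasProduct K] [HasProduct fun n => G.obj (K n)]
    [PreservesLimit (Discrete.functor K) G] (L : T) (hL : DCoh.IsRlim K t L) :
    DCoh.IsRlim (fun n => G.obj (K n)) (fun n => G.map (t n)) (G.obj L) := by
  obtain ⟨a, c, h⟩ := hL
  have h' := G.map_distinguished _ h
  let i : G.obj (∏ᶜ K) ≅ ∏ᶜ (fun n => G.obj (K n)) := PreservesProduct.iso G K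
  have hi : ∀ n, i.hom ≫ Pi.π (fun n => G.obj (K n)) n = G.map (Pi.π K n) := fun n => by
    simp [i]
  refine ⟨G.map a ≫ i.hom, i.inv ≫ G.map c ≫ (G.commShiftIso (1 : ℤ)).hom.app L, ?_⟩
  refine isomorphic_distinguished _ h' _ (Iso.symm ?_)
  refine Triangle.isoMk _ _ (Iso.refl _) i i ?_ ?_ ?_
  · change G.map a ≫ i.hom = 𝟙 _ ≫ G.map a ≫ i.hom
    simp
  · change G.map (Pi.lift fun n => Pi.π K n - Pi.π K (n + 1) ≫ t n) ≫ i.hom =
      i.hom ≫ Pi.lift fun n => Pi.π (fun n => G.obj (K n)) n -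
        Pi.π (fun n => G.obj (K n)) (n + 1) ≫ G.map (t n)
    apply Pi.hom_ext
    intro n
    rw [Category.assoc, hi, ← G.map_comp, Pi.lift_π, Category.assoc, Pi.lift_π,
      Preadditive.comp_sub, G.map_sub, G.map_comp, hi, ← Category.assoc, hi]
  · change (G.map c ≫ (G.commShiftIso (1 : ℤ)).hom.app L) ≫ (shiftFunctor T' (1 : ℤ)).map (𝟙 _) =
      i.hom ≫ i.inv ≫ G.map c ≫ (G.commShiftIso (1 : ℤ)).hom.app L
    simp

end Groth.Agent.Lib.Helper2.RightTri
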